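import Cfsg.Agent.Lib.Classical.PauliMax.Tools

/-!
# Pairs of projective involutions

Two invertible maps with scalar squares are either conjugate up to a scalar inside the group they generate, or
some non-scalar projective involution of that group commutes up to a sign with both, and its product with the
first is conjugate up to a scalar to one of the two.
-/

set_option autoImplicit false
set_option linter.unusedSectionVars false

namespace CfsgLib.Classical.PauliForm

open Module CfsgLib.Classical.PauliMax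

section

variable {G : Type*} [Group G]

/-- Two involutions: conjugate, or centralised by an involution of the dihedral group they generate. -/
theorem involutions_dichotomy {u v : G} (hu : u * u = 1) (hv : v * v = 1) (hf : IsOfFinOrder (u * v)) :
    (∃ h ∈ Subgroup.closure {u, v}, h * u * h⁻¹ = v) ∨
      ∃ z ∈ Subgroup.closure {u, v}, z ≠ 1 ∧ z * z = 1 ∧ z * u = u * z ∧ z * v = v * z ∧
        ∃ h ∈ Subgroup.closure {u, v}, h * u * h⁻¹ = u * z ∨ h * v * h⁻¹ = u * z := by
  have hui : u⁻¹ = u := inv_eq_of_mul_eq_one_right hu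
  have hvi : v⁻¹ = v := inv_eq_of_mul_eq_one_right hv
  obtain ⟨r, hr⟩ : ∃ r : G, r = u * v := ⟨_, rfl⟩
  have hmu : u ∈ Subgroup.closure ({u, v} : Set G) := Subgroup.subset_closure (Or.inl rfl)
  have hmv : v ∈ Subgroup.closure ({u, v} : Set G) := Subgroup.subset_closure (Or.inr rfl)
  have hmr : r ∈ Subgroup.closure ({u, v} : Set G) := hr ▸ Subgroup.mul_mem _ hmu hmv
  -- both involutions invert the product
  have huru : u * r * u⁻¹ = r⁻¹ := by
    rw [hr, mul_inv_rev, hvi, hui, ← mul_assoc, hu, one_mul]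
  have hupow : ∀ l : ℕ, u * r ^ l = (r ^ l)⁻¹ * u := by
    intro l
    rw [← inv_pow, ← huru, conj_pow, inv_mul_cancel_right]
  have hur : u * r = v := by rw [hr, ← mul_assoc, hu, one_mul]
  have hvpow : ∀ l : ℕ, v * r ^ l = (r ^ l)⁻¹ * v := by
    intro l
    rw [← hur, mul_assoc, ← pow_succ', pow_succ, ← mul_assoc, hupow l, mul_assoc]
  have hconju : ∀ l : ℕ, (r ^ l)⁻¹ * u * r ^ l = u * r ^ (2 * l) := by
    intro l
    rw [← hupow, mul_assoc, ← pow_add, two_mul]
  have hconjv : ∀ l : ℕ, (r ^ l)⁻¹ * v * r ^ l = u * r ^ (2 * l + 1) := by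
    intro l
    rw [← hvpow, mul_assoc, ← pow_add, ← hur, mul_assoc, ← pow_succ', two_mul]
  rw [← hr] at hf
  rcases Nat.even_or_odd (orderOf r) with ⟨k, hk⟩ | ⟨l, hl⟩
  · right
    have hk0 : 0 < k := by
      have := hf.orderOf_pos
      omega
    have hne : r ^ k ≠ 1 := fun e => by
      have := Nat.le_of_dvd hk0 (orderOf_dvd_of_pow_eq_one e)
      omega
    have hsq : r ^ k * r ^ k = 1 := by rw [← pow_add, ← hk, pow_orderOf_eq_one]
    have hinv : (r ^ k)⁻¹ = r ^ k := inv_eq_of_mul_eq_one_right hsq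
    refine ⟨r ^ k, Subgroup.pow_mem _ hmr k, hne, hsq, ?_, ?_, ?_⟩
    · rw [hupow, hinv]
    · rw [hvpow, hinv]
    rcases Nat.even_or_odd k with ⟨l, hl⟩ | ⟨l, hl⟩
    · refine ⟨(r ^ l)⁻¹, Subgroup.inv_mem _ (Subgroup.pow_mem _ hmr l), Or.inl ?_⟩
      rw [inv_inv, hconju, hl, two_mul]
    · refine ⟨(r ^ l)⁻¹, Subgroup.inv_mem _ (Subgroup.pow_mem _ hmr l), Or.inr ?_⟩
      rw [inv_inv, hconjv, hl]
  · left
    refine ⟨r ^ l, Subgroup.pow_mem _ hmr l, ?_⟩
    have h1 : u * r ^ (2 * l + 1) = u := by rw [← hl, pow_orderOf_eq_one, mul_one]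
    rw [← hconjv] at h1
    nth_rw 1 [← h1]
    simp only [← mul_assoc, mul_inv_cancel, one_mul]
    rw [mul_inv_cancel_right]

end

variable {F : Type*} [Field F] {V : Type*} [AddCommGroup V] [Module F V] [FiniteDimensional F V]

local notation "E" => Module.End F V

/-- Commuting up to a sign. -/
def PM (x y : Module.End F V) : Prop := x * y = y * x ∨ x * y = -(y * x)

theorem PM.symm {x y : E} (h : PM x y) : PM y x := by
  rcases h with h | h
  · exact .inl h.symm
  · exact .inr (by rw [h, neg_neg])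

theorem pm_self (x : E) : PM x x := .inl rfl

theorem PM.smul_left {x y : E} (h : PM x y) (c : F) : PM (c • x) y := by
  rcases h with h | h
  · exact .inl (by rw [smul_mul_assoc, h, mul_smul_comm])
  · exact .inr (by rw [smul_mul_assoc, h, mul_smul_comm, smul_neg])

theorem PM.smul_right {x y : E} (h : PM x y) (c : F) : PM x (c • y) := (h.symm.smul_left c).symm

theorem PM.mul_right {x y z : E} (h : PM x y) (h' : PM x z) : PM x (y * z) := by
  rcases h with h | h <;> rcases h' with h' | h'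
  · exact .inl (by rw [← mul_assoc, h, mul_assoc, h', mul_assoc])
  · exact .inr (by rw [← mul_assoc, h, mul_assoc, h', mul_neg, mul_assoc])
  · exact .inr (by rw [← mul_assoc, h, neg_mul, mul_assoc, h', mul_assoc])
  · exact .inl (by rw [← mul_assoc, h, neg_mul, mul_assoc, h', mul_neg, neg_neg, mul_assoc])

theorem PM.mul_left {x y z : E} (h : PM x z) (h' : PM y z) : PM (x * y) z := (h.symm.mul_right h'.symm).symm

theorem PM.conj {x y g g' : E} (h : PM x y) (h2 : g' * g = 1) : PM (g * x * g') (g * y * g') := by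
  rcases h with h | h
  · exact .inl (by rw [conj_mul h2, conj_mul h2, h])
  · exact .inr (by rw [conj_mul h2, conj_mul h2, h, mul_neg, neg_mul])

theorem conj_cancel {g g' f : E} (h1 : g * g' = 1) : g * (g' * f * g) * g' = f := by
  calc g * (g' * f * g) * g' = (g * g') * f * (g * g') := by simp only [mul_assoc]
    _ = f := by rw [h1, one_mul, mul_one]

theorem conj_nonscalar {g g' f : E} (h1 : g * g' = 1) (h2 : g' * g = 1) (hf : ¬ IsScalarMap f) :
    ¬ IsScalarMap (g * f * g') := fun ⟨c, hc⟩ => hf ⟨c, by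
  rw [← conj_cancel (f := f) h2, hc, mul_smul_comm, smul_mul_assoc, mul_one, h2]⟩

theorem conj_comp {g g' k k' f : E} : g * (k * f * k') * g' = (g * k) * f * (k' * g') := by
  simp only [mul_assoc]

theorem comp_inv {g g' k k' : E} (h1 : g * g' = 1) (h1' : k * k' = 1) : (g * k) * (k' * g') = 1 := by
  rw [mul_assoc, ← mul_assoc k, h1', one_mul, h1]

theorem trace_conj {g g' f : E} (h2 : g' * g = 1) :
    LinearMap.trace F V (g * f * g') = LinearMap.trace F V f := by
  rw [LinearMap.trace_mul_comm, ← mul_assoc, h2, one_mul]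

theorem commute_conj {g g' f c : E} (h : g * c = c * g) (h' : g' * c = c * g') (hf : f * c = c * f) :
    g * f * g' * c = c * (g * f * g') := by
  rw [mul_assoc, h', ← mul_assoc, mul_assoc g f c, hf, ← mul_assoc, h, mul_assoc c g f, mul_assoc c]

/-- The scalar units. -/
def scalarUnits (F V : Type*) [Field F] [AddCommGroup V] [Module F V] : Subgroup (Module.End F V)ˣ :=
  (Units.map (algebraMap F (Module.End F V)).toMonoidHom).range

theorem scalarUnits_normal : (scalarUnits F V).Normal := by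
  constructor
  rintro _ ⟨c, rfl⟩ g
  refine ⟨c, Units.ext ?_⟩
  rw [Units.val_mul, Units.val_mul]
  change algebraMap F E (c : F) = _ * algebraMap F E (c : F) * _
  rw [← Algebra.commutes, mul_assoc, Units.mul_inv, mul_one]

theorem mem_scalarUnits [Nontrivial V] {u : Eˣ} : u ∈ scalarUnits F V ↔ IsScalarMap (u : E) := by
  constructor
  · rintro ⟨c, rfl⟩
    exact ⟨(c : F), (Algebra.algebraMap_eq_smul_one (c : F))⟩
  · rintro ⟨c, hc⟩
    have hc0 : c ≠ 0 := fun e => u.ne_zero (by rw [hc, e, zero_smul])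
    refine ⟨Units.mk0 c hc0, Units.ext ?_⟩
    rw [hc]
    exact Algebra.algebraMap_eq_smul_one c

/-- Equality modulo scalars. -/
theorem mk_eq_iff [Nontrivial V] [(scalarUnits F V).Normal] {u v : Eˣ} :
    (u : Eˣ ⧸ scalarUnits F V) = v ↔ ∃ c : F, c ≠ 0 ∧ (v : E) = c • (u : E) := by
  rw [QuotientGroup.eq, mem_scalarUnits]
  constructor
  · rintro ⟨c, hc⟩
    have hv : (v : E) = c • (u : E) := by
      calc (v : E) = (u : E) * ((u⁻¹ * v : Eˣ) : E) := by rw [Units.val_mul, ← mul_assoc, Units.mul_inv, one_mul]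
        _ = c • (u : E) := by rw [hc, mul_smul_comm, mul_one]
    exact ⟨c, fun e => v.ne_zero (by rw [hv, e, zero_smul]), hv⟩
  · rintro ⟨c, -, hc⟩
    exact ⟨c, by rw [Units.val_mul, hc, mul_smul_comm, Units.inv_mul]⟩

theorem sign_of_commute_mod [Nontrivial V] {a b : Eˣ} {α c : F} (hα : (a : E) * a = α • 1) (hα0 : α ≠ 0)
    (hc : (a : E) * b = c • ((b : E) * a)) : PM (a : E) (b : E) := by
  have h1 : α • (b : E) = (c * c * α) • (b : E) := by
    calc α • (b : E) = ((a : E) * a) * b := by rw [hα, smul_mul_assoc, one_mul]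
      _ = (a : E) * (c • ((b : E) * a)) := by rw [mul_assoc, hc]
      _ = c • (((a : E) * b) * a) := by rw [mul_smul_comm, mul_assoc]
      _ = (c * c * α) • (b : E) := by
        rw [hc, smul_mul_assoc, mul_assoc, hα, mul_smul_comm, mul_one, smul_smul, smul_smul, mul_assoc]
  have h2 : ((c * c - 1) * α) • (b : E) = 0 := by rw [sub_mul, one_mul, sub_smul, ← h1, sub_self]
  have h3 : c * c = 1 :=
    sub_eq_zero.1 ((mul_eq_zero.1 ((smul_eq_zero.1 h2).resolve_right b.ne_zero)).resolve_right hα0)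
  rcases mul_self_eq_one_iff.1 h3 with rfl | rfl
  · exact .inl (by rw [hc, one_smul])
  · exact .inr (by rw [hc, neg_smul, one_smul])

/-- The pair lemma. The conjugating maps commute with whatever commutes with both maps. -/
theorem pair_dichotomy [Finite F] [Nontrivial V] {Γ : Subgroup Eˣ} {u v : E} (hu : InG Γ u) (hv : InG Γ v)
    {α β : F} (huu : u * u = α • 1) (hvv : v * v = β • 1) :
    (∃ h h' : E, InG Γ h ∧ h * h' = 1 ∧ h' * h = 1 ∧
        (∀ c : E, u * c = c * u → v * c = c * v → h * c = c * h ∧ h' * c = c * h') ∧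
        ∃ l : F, l ≠ 0 ∧ h * u * h' = l • v) ∨
      ∃ z : E, InG Γ z ∧ ¬ IsScalarMap z ∧ (∃ γ : F, γ ≠ 0 ∧ z * z = γ • 1) ∧ PM z u ∧ PM z v ∧
        (∀ c : E, u * c = c * u → v * c = c * v → z * c = c * z) ∧
        ∃ h h' : E, InG Γ h ∧ h * h' = 1 ∧ h' * h = 1 ∧
          (∀ c : E, u * c = c * u → v * c = c * v → h * c = c * h ∧ h' * c = c * h') ∧
          ∃ l : F, l ≠ 0 ∧ (h * u * h' = l • (u * z) ∨ h * v * h' = l • (u * z)) := by
  classical
  haveI : Finite E := Module.finite_of_finite F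
  haveI := scalarUnits_normal (F := F) (V := V)
  obtain ⟨u, hu, rfl⟩ := hu
  obtain ⟨v, hv, rfl⟩ := hv
  set π := QuotientGroup.mk' (scalarUnits F V) with hπ
  have hπeq : ∀ {a b : Eˣ}, π a = π b → ∃ c : F, c ≠ 0 ∧ (b : E) = c • (a : E) := fun e => mk_eq_iff.1 e
  have hsq : ∀ {a : Eˣ} {c : F}, (a : E) * a = c • 1 → π a * π a = 1 := by
    intro a c e
    rw [← map_mul]
    exact (QuotientGroup.eq_one_iff _).2 (mem_scalarUnits.2 ⟨c, by rw [Units.val_mul, e]⟩)
  have hα0 : α ≠ 0 := by
    rintro rfl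
    rw [zero_smul, ← Units.val_mul] at huu
    exact Units.ne_zero _ huu
  have hlift : ∀ h ∈ Subgroup.closure ({π u, π v} : Set _), ∃ k : Eˣ, InG Γ (k : E) ∧
      (∀ c : E, (u : E) * c = c * u → (v : E) * c = c * v →
        (k : E) * c = c * k ∧ ((k⁻¹ : Eˣ) : E) * c = c * ((k⁻¹ : Eˣ) : E)) ∧ π k = h := by
    intro h hh
    rw [← Set.image_pair, ← MonoidHom.map_closure] at hh
    obtain ⟨k, hk, rfl⟩ := hh
    refine ⟨k, ⟨k, (Subgroup.closure_le Γ).2 ?_ hk, rfl⟩, fun c hcu hcv => ?_, rfl⟩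
    · rintro x (rfl | rfl)
      · exact hu
      · exact hv
    have hk' : ∀ k' ∈ Subgroup.closure ({u, v} : Set Eˣ), (k' : E) * c = c * k' := by
      intro k' hk'
      induction hk' using Subgroup.closure_induction with
      | mem x hx =>
        rcases hx with rfl | rfl
        · exact hcu
        · exact hcv
      | one => simp
      | mul x y _ _ hx hy => rw [Units.val_mul, mul_assoc, hy, ← mul_assoc, hx, mul_assoc]
      | inv x _ hx => exact comm_inv (Units.mul_inv x) (Units.inv_mul x) hx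
    exact ⟨hk' k hk, hk' _ (Subgroup.inv_mem _ hk)⟩
  rcases involutions_dichotomy (hsq huu) (hsq hvv) (isOfFinOrder_of_finite _) with
    ⟨h, hh, e⟩ | ⟨z, hz, hz1, hzz, hzu, hzv, h, hh, e⟩
  · obtain ⟨k, hk, hkc, rfl⟩ := hlift h hh
    rw [← map_inv, ← map_mul, ← map_mul] at e
    obtain ⟨c, hc0, hc⟩ := hπeq e.symm
    rw [Units.val_mul, Units.val_mul] at hc
    exact .inl ⟨_, _, hk, Units.mul_inv k, Units.inv_mul k, hkc, c, hc0, hc⟩
  · obtain ⟨z, hzG, hzc, rfl⟩ := hlift z hz
    obtain ⟨k, hk, hkc, rfl⟩ := hlift h hh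
    obtain ⟨γ, hγ⟩ : IsScalarMap ((z : E) * (z : E)) := by
      rw [← Units.val_mul, ← mem_scalarUnits, ← QuotientGroup.eq_one_iff]
      rwa [← map_mul] at hzz
    have hγ0 : γ ≠ 0 := by
      rintro rfl
      rw [zero_smul, ← Units.val_mul] at hγ
      exact Units.ne_zero _ hγ
    refine .inr ⟨(z : E), hzG, fun hs => hz1 ((QuotientGroup.eq_one_iff _).2 (mem_scalarUnits.2 hs)),
      ⟨γ, hγ0, hγ⟩, ?_, ?_, fun c hcu hcv => (hzc c hcu hcv).1, _, _, hk, Units.mul_inv k, Units.inv_mul k, hkc,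
      ?_⟩
    · rw [← map_mul, ← map_mul] at hzu
      obtain ⟨c, -, hc⟩ := hπeq hzu.symm
      rw [Units.val_mul, Units.val_mul] at hc
      exact sign_of_commute_mod hγ hγ0 hc
    · rw [← map_mul, ← map_mul] at hzv
      obtain ⟨c, -, hc⟩ := hπeq hzv.symm
      rw [Units.val_mul, Units.val_mul] at hc
      exact sign_of_commute_mod hγ hγ0 hc
    · rcases e with e | e
      · rw [← map_inv, ← map_mul, ← map_mul, ← map_mul] at e
        obtain ⟨c, hc0, hc⟩ := hπeq e.symm
        rw [Units.val_mul, Units.val_mul, Units.val_mul] at hc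
        exact ⟨c, hc0, .inl hc⟩
      · rw [← map_inv, ← map_mul, ← map_mul, ← map_mul] at e
        obtain ⟨c, hc0, hc⟩ := hπeq e.symm
        rw [Units.val_mul, Units.val_mul, Units.val_mul] at hc
        exact ⟨c, hc0, .inr hc⟩

end CfsgLib.Classical.PauliForm
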