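import Cfsg.Agent.Lib.Solvable.TwoLength.Tools

/-!
# Two-groups of symplectic type with exponent four and centre of order two

Such a group has class at most two and all squares central.
-/

set_option autoImplicit false
set_option linter.unusedSectionVars false

namespace CfsgLib.Classical.PauliForm

open Subgroup
open scoped commutatorElement

variable {G : Type*} [Group G]

/-- Class two follows when the derived group meets the second centre in the centre. -/
theorem commutator_le_center_of_meet [Group.IsNilpotent G]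
    (h : (⊤ : Subgroup G).lowerCentralSeries 1 ⊓ Subgroup.upperCentralSeries G 2 ≤ center G) :
    ⁅(⊤ : Subgroup G), ⊤⁆ ≤ center G := by
  obtain ⟨n, hn⟩ := Subgroup.nilpotent_iff_lowerCentralSeries.1 ‹Group.IsNilpotent G›
  have key : ∀ k i, n ≤ i + k → (⊤ : Subgroup G).lowerCentralSeries (i + 1) ≤ center G := by
    intro k
    induction k with
    | zero =>
      intro i hi
      refine ((Subgroup.lowerCentralSeries_antitone _) (show n ≤ i + 1 by omega)).trans ?_
      rw [hn]; exact bot_le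
    | succ k ih =>
      intro i hi x hx
      refine h ⟨(Subgroup.lowerCentralSeries_antitone _) (show 1 ≤ i + 1 by omega) hx, ?_⟩
      show x ∈ Subgroup.upperCentralSeries G 2
      rw [Subgroup.mem_upperCentralSeries_succ_iff, Subgroup.upperCentralSeries_one]
      intro y
      have h1 : ⁅x, y⁆ ∈ (⊤ : Subgroup G).lowerCentralSeries (i + 1 + 1) := by
        rw [Subgroup.lowerCentralSeries_succ]
        exact commutator_mem_commutator hx (mem_top y)
      exact ih (i + 1) (by omega) h1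
  have := key n 0 (by omega)
  rwa [Subgroup.lowerCentralSeries_succ, Subgroup.lowerCentralSeries_zero] at this

variable [Finite G]

/-- A group of exponent four and symplectic type with centre of order two has central commutators. -/
theorem commutator_central_of_centre_two (hp : IsPGroup 2 G) (h4 : ∀ g : G, g ^ 4 = 1)
    (hchar : ∀ A : Subgroup G, A.Characteristic → IsMulCommutative A → IsCyclic A)
    (hZ : Nat.card (center G) = 2) (a b : G) : ⁅a, b⁆ ∈ center G := by
  classical
  haveI : Group.IsNilpotent G := hp.isNilpotent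
  suffices h : ⁅(⊤ : Subgroup G), ⊤⁆ ≤ center G from h (commutator_mem_commutator (mem_top a) (mem_top b))
  refine commutator_le_center_of_meet ?_
  set D := (⊤ : Subgroup G).lowerCentralSeries 1 with hD
  set A := D ⊓ Subgroup.upperCentralSeries G 2 with hA
  by_contra hne
  obtain ⟨x₀, hx₀A, hx₀⟩ := SetLike.not_le_iff_exists.1 hne
  have hAchar : A.Characteristic := by
    have h₁ : D.Characteristic := inferInstance
    have h₂ : (Subgroup.upperCentralSeries G 2).Characteristic := inferInstance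
    rw [characteristic_iff_map_eq]
    intro φ
    rw [hA, Subgroup.map_inf _ _ _ φ.injective, characteristic_iff_map_eq.1 h₁ φ,
      characteristic_iff_map_eq.1 h₂ φ]
  have hmemZ₂ : ∀ u, u ∈ Subgroup.upperCentralSeries G 2 → ∀ y : G, u * y * u⁻¹ * y⁻¹ ∈ center G := fun u hu => by
    rw [Subgroup.mem_upperCentralSeries_succ_iff, Subgroup.upperCentralSeries_one] at hu
    exact hu
  have hAcomm : ∀ u ∈ A, ∀ v ∈ A, u * v = v * u := by
    intro u hu v hv
    have h1 : ⁅Subgroup.upperCentralSeries G 2, (⊤ : Subgroup G)⁆ ≤ center G :=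
      commutator_le.2 fun x hx y _ => hmemZ₂ x hx y
    have h2 : ⁅center G, (⊤ : Subgroup G)⁆ = ⊥ :=
      commutator_eq_bot_iff_le_centralizer.2 (by rw [coe_top, centralizer_univ])
    have hcomm : ⁅D, Subgroup.upperCentralSeries G 2⁆ = ⊥ := by
      rw [hD, Subgroup.lowerCentralSeries_succ, Subgroup.lowerCentralSeries_zero]
      refine commutator_commutator_eq_bot_of_rotate ?_ ?_
      · rw [commutator_comm (⊤ : Subgroup G)]
        exact eq_bot_iff.2 ((commutator_mono h1 le_rfl).trans h2.le)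
      · exact eq_bot_iff.2 ((commutator_mono h1 le_rfl).trans h2.le)
    rw [← commutatorElement_eq_one_iff_mul_comm, ← mem_bot, ← hcomm]
    exact commutator_mem_commutator hu.1 hv.2
  -- characteristic abelian subgroups have order at most four
  have hsmall : ∀ X : Subgroup G, X.Characteristic → IsMulCommutative X → Nat.card X ≤ 4 := by
    intro X hX hXc
    haveI := hchar X hX hXc
    obtain ⟨g, hg⟩ := IsCyclic.exists_ofOrder_eq_natCard (α := X)
    rw [← hg]
    exact Nat.le_of_dvd (by norm_num) (orderOf_dvd_of_pow_eq_one (Subtype.ext (by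
      rw [Subgroup.coe_pow, h4, Subgroup.coe_one])))
  set X := A ⊔ center G with hX
  haveI hXchar : X.Characteristic := by
    rw [characteristic_iff_map_eq]
    intro φ
    rw [hX, Subgroup.map_sup, characteristic_iff_map_eq.1 hAchar φ,
      characteristic_iff_map_eq.1 Subgroup.centerCharacteristic φ]
  have hXcomm : IsMulCommutative X := ⟨⟨fun u v => Subtype.ext (by
    obtain ⟨u', hu, z, hz, e⟩ := Subgroup.mem_sup_of_normal_right.1 u.2
    obtain ⟨v', hv, w, hw, e'⟩ := Subgroup.mem_sup_of_normal_right.1 v.2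
    have hz' : ∀ g, g * z = z * g := Subgroup.mem_center_iff.1 hz
    have hw' : ∀ g, g * w = w * g := Subgroup.mem_center_iff.1 hw
    rw [Subgroup.coe_mul, Subgroup.coe_mul, ← e, ← e']
    calc u' * z * (v' * w) = u' * (z * v') * w := by group
      _ = (u' * v') * (z * w) := by rw [← hz']; group
      _ = (v' * u') * (w * z) := by rw [hAcomm u' hu v' hv, hw' z]
      _ = v' * (u' * w) * z := by group
      _ = v' * w * (u' * z) := by rw [hw' u']; group)⟩⟩
  haveI := hchar X hXchar hXcomm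
  have hZlt : center G < X := lt_of_le_of_ne le_sup_right fun e => hx₀ (e ▸ mem_sup_left hx₀A)
  have hX4 : Nat.card X = 4 := by
    refine le_antisymm (hsmall X hXchar hXcomm) ?_
    obtain ⟨c, hc⟩ := Subgroup.card_dvd_of_le hZlt.le
    rw [hZ] at hc
    have : 2 ≤ c := by
      by_contra hc2
      have h0 : Nat.card X ≤ Nat.card (center G) := by rw [hZ, hc]; omega
      exact hZlt.ne (Subgroup.eq_of_le_of_card_ge hZlt.le h0)
    omega
  -- the generator
  obtain ⟨m, hmZ, hm1⟩ : ∃ m ∈ center G, m ≠ 1 := by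
    by_contra hcon
    push Not at hcon
    rw [(Subgroup.eq_bot_iff_forall _).2 hcon, Subgroup.card_bot] at hZ
    omega
  haveI : Fintype (center G) := Fintype.ofFinite _
  have hcases : ∀ z ∈ center G, z = 1 ∨ z = m := by
    intro z hz
    by_contra hcon
    push Not at hcon
    have h3 : ({⟨1, one_mem _⟩, ⟨m, hmZ⟩, ⟨z, hz⟩} : Finset (center G)).card = 3 := by
      rw [Finset.card_insert_of_notMem, Finset.card_insert_of_notMem, Finset.card_singleton] <;>
        simp [Subtype.ext_iff, hm1.symm, Ne.symm hcon.1, Ne.symm hcon.2]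
    have := Finset.card_le_univ ({⟨1, one_mem _⟩, ⟨m, hmZ⟩, ⟨z, hz⟩} : Finset (center G))
    rw [h3, ← Nat.card_eq_fintype_card, hZ] at this
    omega
  have hm2 : m * m = 1 := (hcases _ (mul_mem hmZ hmZ)).resolve_right fun e => hm1 (mul_eq_left.1 e)
  have hzz : ∀ z ∈ center G, z * z = 1 := fun z hz => by
    rcases hcases z hz with rfl | rfl
    exacts [one_mul 1, hm2]
  obtain ⟨⟨x, hxX⟩, hgen⟩ := IsCyclic.exists_ofOrder_eq_natCard (α := X)
  rw [hX4, ← orderOf_injective X.subtype X.subtype_injective, Subgroup.coe_subtype] at hgen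
  have hXeq : X = zpowers x := (Subgroup.eq_of_le_of_card_ge (zpowers_le.2 hxX) (by
    rw [Nat.card_zpowers, hgen, hX4])).symm
  have hxZ : x ∉ center G := fun hx => hZlt.ne (le_antisymm hZlt.le (hXeq ▸ zpowers_le.2 hx))
  have hxx1 : x * x ≠ 1 := fun e => by
    have := orderOf_dvd_of_pow_eq_one (show x ^ 2 = 1 by rw [pow_two, e])
    rw [hgen] at this
    norm_num at this
  obtain ⟨a₀, ha₀, z₀, hz₀, hxe⟩ := Subgroup.mem_sup_of_normal_right.1 hxX
  have hx2 : ∀ y : G, x * y * x⁻¹ * y⁻¹ ∈ center G := fun y => by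
    have e : x * y * x⁻¹ * y⁻¹ = a₀ * y * a₀⁻¹ * y⁻¹ := by
      have hz' : ∀ g, g * z₀ = z₀ * g := Subgroup.mem_center_iff.1 hz₀
      rw [← hxe]
      calc a₀ * z₀ * y * (a₀ * z₀)⁻¹ * y⁻¹ = a₀ * (z₀ * y) * z₀⁻¹ * a₀⁻¹ * y⁻¹ := by group
        _ = a₀ * (y * z₀) * z₀⁻¹ * a₀⁻¹ * y⁻¹ := by rw [hz']
        _ = a₀ * y * a₀⁻¹ * y⁻¹ := by group
    rw [e]
    exact hmemZ₂ a₀ ha₀.2 y
  have hxxm : x * x = m := by
    refine (hcases _ (Subgroup.mem_center_iff.2 fun y => ?_)).resolve_left hxx1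
    obtain ⟨z, hz, hze⟩ : ∃ z ∈ center G, z = x * y * x⁻¹ * y⁻¹ := ⟨_, hx2 y, rfl⟩
    have hxy : x * y = z * (y * x) := by rw [hze]; group
    calc y * (x * x) = (z * z) * (y * (x * x)) := by rw [hzz z hz, one_mul]
      _ = z * (z * (y * x) * x) := by group
      _ = z * (x * y * x) := by rw [hxy]
      _ = (z * x) * (y * x) := by group
      _ = (x * z) * (y * x) := by rw [Subgroup.mem_center_iff.1 hz]
      _ = x * (x * y) := by rw [hxy]; group
      _ = x * x * y := by group
  -- its centraliser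
  haveI : (zpowers x).Characteristic := hXeq ▸ hXchar
  set C := centralizer (zpowers x : Set G) with hC
  haveI : C.Characteristic := inferInstance
  have hCmem : ∀ g, g ∈ C ↔ g * x = x * g := by
    intro g
    rw [hC, Subgroup.mem_centralizer_iff]
    refine ⟨fun h => (h x (mem_zpowers x)).symm, fun h w hw => ?_⟩
    obtain ⟨k, rfl⟩ := mem_zpowers_iff.1 hw
    exact ((show Commute g x from h).zpow_right k).symm.eq
  have hxC : x ∈ C := (hCmem x).2 rfl
  have hmC : ∀ z ∈ center G, z ∈ C := fun z hz => (hCmem z).2 (Subgroup.mem_center_iff.1 hz x).symm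
  have hCchar : ∀ Y : Subgroup C, Y.Characteristic → IsMulCommutative Y → Y.map C.subtype ≤ zpowers x := by
    intro Y hY hYc
    have hYG : (Y.map C.subtype).Characteristic := by
      rw [characteristic_iff_map_eq]
      intro φ
      let ψ : C ≃* C := (φ.subgroupMap C).trans (MulEquiv.subgroupCongr (characteristic_iff_map_eq.1
        (inferInstance : C.Characteristic) φ))
      conv_rhs => rw [← characteristic_iff_map_eq.1 hY ψ]
      rw [Subgroup.map_map, Subgroup.map_map]
      rfl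
    have hle : Y.map C.subtype ≤ C := Subgroup.map_subtype_le Y
    set W := Y.map C.subtype ⊔ zpowers x with hW
    have hWchar : W.Characteristic := by
      rw [characteristic_iff_map_eq]
      intro φ
      rw [hW, Subgroup.map_sup, characteristic_iff_map_eq.1 hYG φ,
        characteristic_iff_map_eq.1 (inferInstance : (zpowers x).Characteristic) φ]
    have hWc : IsMulCommutative W := by
      have : W = closure ((Y.map C.subtype : Set G) ∪ {x}) := by
        rw [Subgroup.closure_union, Subgroup.closure_eq, hW, zpowers_eq_closure]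
      rw [this]
      refine Subgroup.isMulCommutative_closure fun u hu v hv => ?_
      rcases hu with hu | hu <;> rcases hv with hv | hv
      · obtain ⟨u', hu', rfl⟩ := hu
        obtain ⟨v', hv', rfl⟩ := hv
        exact congrArg C.subtype (congrArg Subtype.val (hYc.is_comm.comm ⟨u', hu'⟩ ⟨v', hv'⟩))
      · rw [Set.mem_singleton_iff.1 hv]; exact (hCmem u).1 (hle hu)
      · rw [Set.mem_singleton_iff.1 hu]; exact ((hCmem v).1 (hle hv)).symm
      · rw [Set.mem_singleton_iff.1 hu, Set.mem_singleton_iff.1 hv]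
    have heq : zpowers x = W := Subgroup.eq_of_le_of_card_ge le_sup_right (by
      rw [Nat.card_zpowers, hgen]; exact hsmall W hWchar hWc)
    exact le_sup_left.trans heq.ge
  have hCsq : ∀ c ∈ C, c * c ∈ center G := by
    intro c hc
    have hc2 : (⟨c, hc⟩ : C) ^ 2 ∈ center C :=
      CfsgLib.Solvable.TwoLength.sq_mem_center_of_charAbelian (hp.to_subgroup C) (fun Y hY hYc y hy => by
        rw [Subgroup.mem_center_iff]
        intro g
        obtain ⟨k, hk⟩ := mem_zpowers_iff.1
          (hCchar Y hY ⟨⟨fun u v => Subtype.ext (hYc u u.2 v v.2)⟩⟩ ⟨y, hy, rfl⟩)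
        refine Subtype.ext ?_
        show (g : G) * (y : G) = (y : G) * g
        rw [show (y : G) = x ^ k from hk.symm]
        exact ((show Commute (g : G) x from (hCmem g).1 g.2).zpow_right k).eq) ⟨c, hc⟩
    have hin : c * c ∈ zpowers x := by
      refine hCchar (center C) inferInstance inferInstance ⟨_, hc2, ?_⟩
      show (((⟨c, hc⟩ : C) ^ 2 : C) : G) = c * c
      rw [Subgroup.coe_pow, pow_two]
    obtain ⟨k, hk⟩ := mem_zpowers_iff.1 hin
    rcases Int.even_or_odd' k with ⟨j, rfl | rfl⟩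
    · rw [← hk, zpow_mul, show x ^ (2 : ℤ) = x * x by rw [zpow_two], hxxm]
      exact zpow_mem hmZ _
    · exfalso
      have e1 : c ^ 4 = x * x := by
        rw [show c ^ 4 = (c * c) * (c * c) by rw [pow_succ, pow_succ, pow_two]; group, ← hk, ← zpow_add,
          show 2 * j + 1 + (2 * j + 1) = 4 * j + 2 by ring, zpow_add, zpow_mul, zpow_ofNat, h4, one_zpow,
          one_mul, zpow_two]
      exact hxx1 (e1.symm.trans (h4 c))
  -- the quotient by the centre
  let π := QuotientGroup.mk' (center G)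
  have hπ1 : ∀ z ∈ center G, π z = 1 := fun z hz => (QuotientGroup.eq_one_iff z).2 hz
  have hinv : ∀ c ∈ C, (π c)⁻¹ = π c := fun c hc =>
    inv_eq_of_mul_eq_one_left (by rw [← map_mul]; exact hπ1 _ (hCsq c hc))
  have hπcomm : ∀ c ∈ C, ∀ d ∈ C, π c * π d = π d * π c := fun c hc d hd => by
    rw [← map_mul π c d, ← hinv _ (mul_mem hc hd), map_mul, _root_.mul_inv_rev, hinv c hc, hinv d hd]
  obtain ⟨g₀, hg₀⟩ : ∃ g₀, g₀ ∉ C := by
    by_contra hcon
    push Not at hcon
    exact hxZ (Subgroup.mem_center_iff.2 fun g => (hCmem g).1 (hcon g))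
  have hconjx : ∀ g, g ∉ C → g * x * g⁻¹ = m * x := by
    intro g hg
    obtain ⟨z, hz, hze⟩ : ∃ z ∈ center G, z = x * g * x⁻¹ * g⁻¹ := ⟨_, hx2 g, rfl⟩
    have hxg : x * g = z * (g * x) := by rw [hze]; group
    rcases hcases z hz with rfl | rfl
    · exact absurd ((hCmem g).2 (by rw [one_mul] at hxg; exact hxg.symm)) hg
    · calc g * x * g⁻¹ = (z * z) * (g * x) * g⁻¹ := by rw [hm2, one_mul]
        _ = z * (z * (g * x)) * g⁻¹ := by group
        _ = z * (x * g) * g⁻¹ := by rw [hxg]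
        _ = z * x := by group
  have hidx : ∀ g, g ∉ C → g₀⁻¹ * g ∈ C := by
    intro g hg
    refine (hCmem _).2 ?_
    have e1 := hconjx g hg
    rw [← hconjx g₀ hg₀] at e1
    calc g₀⁻¹ * g * x = g₀⁻¹ * (g * x * g⁻¹) * g := by group
      _ = x * (g₀⁻¹ * g) := by rw [e1]; group
  let ψ : C →* G ⧸ center G := MonoidHom.mk' (fun c => π (g₀ * c * g₀⁻¹ * c)) (fun c d => by
    have hcg : g₀ * (d : G) * g₀⁻¹ ∈ C :=
      Subgroup.Normal.conj_mem (inferInstance : C.Normal) _ d.2 g₀
    rw [Subgroup.coe_mul, show g₀ * ((c : G) * d) * g₀⁻¹ * ((c : G) * d) =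
      (g₀ * c * g₀⁻¹) * ((g₀ * d * g₀⁻¹) * c) * d by group, map_mul, map_mul π (g₀ * c * g₀⁻¹),
      map_mul π (g₀ * d * g₀⁻¹) c, hπcomm _ hcg _ c.2, ← map_mul π _ (g₀ * (d : G) * g₀⁻¹), ← map_mul, ← map_mul,
      ← map_mul]
    exact congrArg π (by group))
  have hg₀2 : g₀ * g₀ ∈ C := by
    refine (hCmem _).2 ?_
    have hx' := hconjx g₀ hg₀
    calc g₀ * g₀ * x = g₀ * (g₀ * x * g₀⁻¹) * g₀⁻¹ * (g₀ * g₀) := by group
      _ = (g₀ * m) * x * g₀⁻¹ * (g₀ * g₀) := by rw [hx']; group
      _ = (m * g₀) * x * g₀⁻¹ * (g₀ * g₀) := by rw [Subgroup.mem_center_iff.1 hmZ]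
      _ = m * (g₀ * x * g₀⁻¹) * (g₀ * g₀) := by group
      _ = (m * m) * x * (g₀ * g₀) := by rw [hx']; group
      _ = x * (g₀ * g₀) := by rw [hm2, one_mul]
  have hval : ∀ c : C, ψ c = π (g₀ * c * g₀⁻¹ * c) := fun c => rfl
  have hmixed : ∀ c ∈ C, ∀ d ∈ C, ⁅π (g₀ * c), π d⁆ ∈ ψ.range := by
    intro c hc d hd
    refine ⟨⟨d, hd⟩, ?_⟩
    rw [hval, map_mul, map_mul, map_mul, map_inv]
    have hcc : π c * π d * (π c)⁻¹ = π d := by rw [hπcomm c hc d hd, mul_inv_cancel_right]
    calc π g₀ * π d * (π g₀)⁻¹ * π d = π g₀ * (π c * π d * (π c)⁻¹) * (π g₀)⁻¹ * (π d)⁻¹ := by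
          rw [hcc, hinv d hd]
      _ = ⁅π g₀ * π c, π d⁆ := by rw [commutatorElement_def]; group
      _ = ⁅π (g₀ * c), π d⁆ := by rw [map_mul]
  have hout : ∀ c ∈ C, ∀ d ∈ C, ⁅π (g₀ * c), π (g₀ * d)⁆ ∈ ψ.range := by
    intro c hc d hd
    refine ⟨⟨c * d, mul_mem hc hd⟩, ?_⟩
    rw [hval]
    have e0 : π g₀ * π g₀ * (π d * (π c)⁻¹) * (π g₀ * π g₀)⁻¹ = π c * π d := by
      have h5 := hπcomm (g₀ * g₀) hg₀2 (d * c) (mul_mem hd hc)
      rw [map_mul π g₀ g₀, map_mul π d c] at h5
      rw [hinv c hc, h5, mul_inv_cancel_right, hπcomm d hd c hc]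
    have h6 : π g₀ * π d * (π g₀)⁻¹ * (π c * π d) = π c * π d * (π g₀ * π d * (π g₀)⁻¹) := by
      have := hπcomm (g₀ * d * g₀⁻¹) (Subgroup.Normal.conj_mem (inferInstance : C.Normal) _ hd g₀) (c * d)
        (mul_mem hc hd)
      simpa only [map_mul, map_inv] using this
    calc π (g₀ * (c * d) * g₀⁻¹ * (c * d))
        = π g₀ * π c * (π g₀)⁻¹ * (π g₀ * π d * (π g₀)⁻¹ * (π c * π d)) := by
          simp only [map_mul, map_inv]; group
      _ = π g₀ * π c * (π g₀)⁻¹ * (π g₀ * π g₀ * (π d * (π c)⁻¹) * (π g₀ * π g₀)⁻¹ *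
            (π g₀ * (π d)⁻¹ * (π g₀)⁻¹)) := by
          rw [h6, e0, hinv d hd]
      _ = ⁅π (g₀ * c), π (g₀ * d)⁆ := by rw [commutatorElement_def, map_mul, map_mul]; group
  have hmem : ⁅(⊤ : Subgroup G), ⊤⁆ ≤ ψ.range.comap π := by
    refine Subgroup.commutator_le.2 fun u _ v _ => ?_
    rw [Subgroup.mem_comap, map_commutatorElement]
    by_cases hu : u ∈ C <;> by_cases hv : v ∈ C
    · rw [commutatorElement_eq_one_iff_mul_comm.2 (hπcomm u hu v hv)]; exact one_mem _
    · rw [← commutatorElement_inv]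
      have := hmixed _ (hidx v hv) u hu
      rw [mul_inv_cancel_left] at this
      exact inv_mem this
    · have := hmixed _ (hidx u hu) v hv
      rwa [mul_inv_cancel_left] at this
    · have := hout _ (hidx u hu) _ (hidx v hv)
      rwa [mul_inv_cancel_left, mul_inv_cancel_left] at this
  have hxD : π x ∈ ψ.range := by
    have h1 : a₀ ∈ ⁅(⊤ : Subgroup G), (⊤ : Subgroup G)⁆ := by
      have := ha₀.1
      rwa [hD, Subgroup.lowerCentralSeries_succ, Subgroup.lowerCentralSeries_zero] at this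
    have h2 : π x = π a₀ := by rw [← hxe, map_mul, hπ1 z₀ hz₀, mul_one]
    rw [h2]
    exact hmem h1
  obtain ⟨⟨c, hc⟩, hcx⟩ := hxD
  rw [hval] at hcx
  -- an element of order eight
  obtain ⟨w, hwdef⟩ : ∃ w, w = g₀ * c * g₀⁻¹ * c := ⟨_, rfl⟩
  rw [← hwdef] at hcx
  obtain ⟨z₁, hz₁, hwz⟩ : ∃ z ∈ center G, w = x * z := by
    refine ⟨x⁻¹ * w, ?_, by rw [mul_inv_cancel_left]⟩
    rw [← QuotientGroup.eq_one_iff]
    show π (x⁻¹ * w) = 1
    rw [map_mul, map_inv, hcx, inv_mul_cancel]
  have hz1' : ∀ g, g * z₁ = z₁ * g := Subgroup.mem_center_iff.1 hz₁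
  obtain ⟨e, hedef⟩ : ∃ e, e = g₀ * g₀ := ⟨_, rfl⟩
  rw [← hedef] at hg₀2
  have hwe : w * e = e * w := by
    rw [hwz]
    calc x * z₁ * e = (x * e) * z₁ := by rw [mul_assoc, ← hz1', ← mul_assoc]
      _ = e * (x * z₁) := by rw [← (hCmem e).1 hg₀2, mul_assoc]
  have hww : w * w = m := by
    rw [hwz, mul_assoc, ← mul_assoc z₁, ← hz1' x, mul_assoc x z₁, ← mul_assoc, hzz z₁ hz₁, mul_one, hxxm]
  have hee : e * e = 1 := by
    have := h4 g₀
    rw [pow_succ, pow_succ, pow_two] at this
    rw [hedef, ← this]; group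
  obtain ⟨z₂, hz₂, hec⟩ : ∃ z ∈ center G, e * c = c * e * z := by
    refine ⟨(c * e)⁻¹ * (e * c), ?_, by rw [mul_inv_cancel_left]⟩
    rw [← QuotientGroup.eq_one_iff]
    show π ((c * e)⁻¹ * (e * c)) = 1
    rw [map_mul, map_inv, map_mul, map_mul, hπcomm c hc e hg₀2, inv_mul_cancel]
  have hz2' : ∀ g, g * z₂ = z₂ * g := Subgroup.mem_center_iff.1 hz₂
  have hk2 : g₀ * c * (g₀ * c) = w * e * z₂ := by
    calc g₀ * c * (g₀ * c) = g₀ * c * g₀⁻¹ * (g₀ * g₀ * c) := by group
      _ = g₀ * c * g₀⁻¹ * (c * e * z₂) := by rw [← hedef, hec]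
      _ = w * e * z₂ := by rw [hwdef]; group
  have hwez : Commute z₂ (w * e) := (hz2' _).symm
  have h8 : (g₀ * c) ^ 4 = m := by
    calc (g₀ * c) ^ 4 = (g₀ * c * (g₀ * c)) * (g₀ * c * (g₀ * c)) := by rw [pow_succ, pow_succ, pow_two]; group
      _ = w * e * z₂ * (w * e * z₂) := by rw [hk2]
      _ = (w * e * (w * e)) * (z₂ * z₂) := hwez.mul_mul_mul_comm _ _
      _ = (w * w) * (e * e) := by rw [hzz z₂ hz₂, mul_one, (show Commute e w from hwe.symm).mul_mul_mul_comm]
      _ = m := by rw [hww, hee, mul_one]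
  exact hm1 (h8.symm.trans (h4 _))

end CfsgLib.Classical.PauliForm
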