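import Cfsg.Agent.Lib.Classical.PauliMax.Final
import Cfsg.Agent.Lib.Classical.PauliForm.Dihedral

/-!
# A group with small centralisers normalises a Pauli system: fusion of involutions

Over any finite field of odd characteristic with a square root of minus one, in degree at least eight.  The
maps `cz a b`, involutions equal to `1` on three of the four joint eigenspaces of two commuting members, are
told from the members by their traces.
-/

set_option autoImplicit false
set_option linter.unusedSectionVars false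

namespace CfsgLib.Classical.PauliForm

open Module CfsgLib.Classical.PauliMax

variable {F : Type*} [Field F] {V : Type*} [AddCommGroup V] [Module F V] [FiniteDimensional F V]

local notation "E" => Module.End F V

/-- The sign change on the common `-1` eigenspace of two commuting involutions. -/
def cz (a b : Module.End F V) : Module.End F V := (2 : F)⁻¹ • (1 + a + b - a * b)

theorem cz_comm_of {a b f : E} (ha : f * a = a * f) (hb : f * b = b * f) : f * cz a b = cz a b * f := by
  have hab : f * (a * b) = a * b * f := by rw [← mul_assoc, ha, mul_assoc, hb, mul_assoc]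
  simp only [cz, mul_smul_comm, smul_mul_assoc, mul_add, add_mul, mul_sub, sub_mul, mul_one, one_mul, ha, hb, hab]

theorem cz_conj {a b g g' : E} (h1 : g * g' = 1) (h2 : g' * g = 1) :
    g * cz a b * g' = cz (g * a * g') (g * b * g') := by
  rw [cz, cz, conj_mul h2]
  simp only [mul_smul_comm, smul_mul_assoc, mul_add, add_mul, mul_sub, sub_mul, mul_one, h1]

theorem cz_sq (h2 : (2 : F) ≠ 0) {a b : E} (ha : a * a = 1) (hb : b * b = 1) (hab : b * a = a * b) :
    cz a b * cz a b = 1 := by
  have e1 : a * b * a = b := by rw [mul_assoc, hab, ← mul_assoc, ha, one_mul]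
  have e2 : b * (a * b) = a := by rw [← mul_assoc, hab, mul_assoc, hb, mul_one]
  have e3 : a * (a * b) = b := by rw [← mul_assoc, ha, one_mul]
  have e4 : a * b * b = a := by rw [mul_assoc, hb, mul_one]
  have e5 : a * b * (a * b) = 1 := by rw [← mul_assoc, e1, hb]
  have h : (1 + a + b - a * b) * (1 + a + b - a * b) = (4 : F) • (1 : E) := by
    simp only [mul_add, add_mul, mul_sub, sub_mul, mul_one, one_mul, ha, hb, hab, e1, e2, e3, e4, e5]
    rw [show (4 : F) = 1 + 1 + 1 + 1 by ring, add_smul, add_smul, add_smul, one_smul]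
    abel
  rw [cz, smul_mul_smul_comm, h, smul_smul]
  have : (2 : F)⁻¹ * (2 : F)⁻¹ * 4 = 1 := by field_simp; ring
  rw [this, one_smul]

theorem a_mul_cz {a b : E} (ha : a * a = 1) : a * cz a b = cz a (-b) := by
  have e3 : a * (a * b) = b := by rw [← mul_assoc, ha, one_mul]
  simp only [cz, mul_smul_comm, mul_add, mul_sub, mul_one, mul_neg, ha, e3]
  congr 1
  abel

theorem cz_swap {a b : E} (hab : b * a = a * b) : cz a b = cz b a := by
  simp only [cz, hab]
  congr 1
  abel

theorem prod_mul_cz (h2 : (2 : F) ≠ 0) {a b : E} (ha : a * a = 1) (hb : b * b = 1) (hab : b * a = a * b) :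
    a * b * cz a b = -cz (-a) (-b) := by
  have e1 : a * b * a = b := by rw [mul_assoc, hab, ← mul_assoc, ha, one_mul]
  have e4 : a * b * b = a := by rw [mul_assoc, hb, mul_one]
  have e5 : a * b * (a * b) = 1 := by rw [← mul_assoc, e1, hb]
  simp only [cz, mul_smul_comm, mul_add, mul_sub, mul_one, neg_mul_neg, e1, e4, e5, ← smul_neg]
  congr 1
  abel

section

variable {i : F} {R : Set (Module.End F V)} (h : Pauli i R)
include h

theorem one_add_i_ne : (1 : F) + i ≠ 0 := fun e =>
  h.two_ne (by linear_combination (1 - i) * e + h.hi)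

theorem quarter_prod {a b : E} (ha : a * a = 1) (hb : b * b = 1) (hab : b * a = a * b) :
    quarter i a * quarter i b * quarter i (-(a * b)) = (2 * (1 + i)) • cz a b := by
  have e1 : a * b * a = b := by rw [mul_assoc, hab, ← mul_assoc, ha, one_mul]
  have e2 : b * (a * b) = a := by rw [← mul_assoc, hab, mul_assoc, hb, mul_one]
  have e3 : a * (a * b) = b := by rw [← mul_assoc, ha, one_mul]
  have e5 : a * b * (a * b) = 1 := by rw [← mul_assoc, e1, hb]
  have h2 := h.two_ne
  simp only [quarter, cz, mul_add, add_mul, mul_one, one_mul, mul_neg, smul_neg, smul_mul_assoc, mul_smul_comm,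
    smul_add, smul_sub, smul_smul, e2, e3, e5, h.hi, neg_smul, one_smul, neg_mul, neg_neg]
  match_scalars <;> field_simp
  all_goals first
    | ring1
    | linear_combination h.hi
    | linear_combination -h.hi
    | linear_combination i * h.hi
    | linear_combination -i * h.hi
    | linear_combination (1 + i) * h.hi
    | linear_combination -(1 + i) * h.hi

theorem cz_mem_group {Γ : Subgroup Eˣ} (hΓ : Ambient i R Γ) {a b : E} (ha : a ∈ R) (haa : a * a = 1)
    (hb : b ∈ R) (hbb : b * b = 1) (hab : b * a = a * b) : InG Γ (cz a b) ∧ Nor R (cz a b) := by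
  have hc : -(a * b) ∈ R := h.neg_mem (h.mul_mem _ ha _ hb)
  have hcc : -(a * b) * -(a * b) = 1 := by
    rw [neg_mul_neg, ← mul_assoc, mul_assoc a b a, hab, ← mul_assoc, haa, one_mul, hbb]
  have hne : (2 : F) * (1 + i) ≠ 0 := mul_ne_zero h.two_ne (one_add_i_ne h)
  have e : cz a b = (2 * (1 + i))⁻¹ • (quarter i a * quarter i b * quarter i (-(a * b))) := by
    rw [quarter_prod h haa hbb hab, inv_smul_smul₀ hne]
  rw [e]
  exact ⟨InG.smul hΓ (((hΓ.quarter a ha haa).mul (hΓ.quarter b hb hbb)).mul (hΓ.quarter _ hc hcc)) (inv_ne_zero hne),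
    (((h.nor_quarter ha haa).mul (h.nor_quarter hb hbb)).mul (h.nor_quarter hc hcc)).smul _⟩

theorem mul_cancel_member {a f : E} (haa : a * a = 1) : a * (a * f) = f := by rw [← mul_assoc, haa, one_mul]

theorem trace_member {y : E} (hy : y ∈ R) (hys : ¬ IsScalarMap y) : LinearMap.trace F V y = 0 :=
  h.trace_eq_zero hy hys

theorem trace_cz {a b : E} (ha : a ∈ R) (hb : b ∈ R) (has : ¬ IsScalarMap a) (hbs : ¬ IsScalarMap b)
    (habs : ¬ IsScalarMap (a * b)) : LinearMap.trace F V (cz a b) = (2 : F)⁻¹ * (finrank F V : F) := by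
  rw [cz, map_smul, map_sub, map_add, map_add, LinearMap.trace_one, h.trace_eq_zero ha has, h.trace_eq_zero hb hbs,
    h.trace_eq_zero (h.mul_mem _ ha _ hb) habs, add_zero, add_zero, sub_zero, smul_eq_mul]

theorem trace_a_cz {a b : E} (ha : a ∈ R) (haa : a * a = 1) (hb : b ∈ R) (has : ¬ IsScalarMap a)
    (hbs : ¬ IsScalarMap b) (habs : ¬ IsScalarMap (a * b)) :
    LinearMap.trace F V (a * cz a b) = (2 : F)⁻¹ * (finrank F V : F) := by
  rw [a_mul_cz haa]
  exact trace_cz h ha (h.neg_mem hb) has (fun hc => hbs (by simpa using hc.smul (-1)))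
    (fun hc => habs (by simpa using hc.smul (-1)))

theorem trace_mul_cz {a b y : E} (ha : a ∈ R) (hb : b ∈ R) (hy : y ∈ R) (h0 : ¬ IsScalarMap y)
    (h1 : ¬ IsScalarMap (y * a)) (h2 : ¬ IsScalarMap (y * b)) (h3 : ¬ IsScalarMap (y * (a * b))) :
    LinearMap.trace F V (y * cz a b) = 0 := by
  rw [cz, mul_smul_comm, mul_sub, mul_add, mul_add, mul_one, map_smul, map_sub, map_add, map_add,
    h.trace_eq_zero hy h0, h.trace_eq_zero (h.mul_mem _ hy _ ha) h1, h.trace_eq_zero (h.mul_mem _ hy _ hb) h2,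
    h.trace_eq_zero (h.mul_mem _ hy _ (h.mul_mem _ ha _ hb)) h3]
  simp

theorem exists_outside [Nontrivial V] (h8 : 8 ≤ finrank F V) {a b : E} (ha : a ∈ R) (hb : b ∈ R) :
    ∃ y ∈ R, y * y = 1 ∧ y * a = a * y ∧ y * b = b * y ∧ ¬ IsScalarMap y ∧
      ¬ IsScalarMap (y * a) ∧ ¬ IsScalarMap (y * b) ∧ ¬ IsScalarMap (y * (a * b)) := by
  classical
  by_contra hcon
  push Not at hcon
  set S : Finset E := {1, a, b, a * b} with hS
  have hle : Submodule.span F {y | y ∈ R ∧ y * a = a * y ∧ y * b = b * y} ≤ Submodule.span F (S : Set E) := by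
    refine Submodule.span_le.2 ?_
    rintro y ⟨hy, hya, hyb⟩
    have hin : ∀ (c : F) (x : E), x ∈ S → c • x ∈ Submodule.span F (S : Set E) := fun c x hx =>
      Submodule.smul_mem _ _ (Submodule.subset_span hx)
    by_cases hys : IsScalarMap y
    · obtain ⟨c, rfl⟩ := hys
      exact hin c 1 (by simp [hS])
    obtain ⟨y', hy', hyy', hys', c, hc, rfl⟩ := h.exists_invol hy hys
    have hcomm : ∀ {z : E}, c • y' * z = z * (c • y') → y' * z = z * y' := fun {z} e =>
      smul_right_injective E hc (by simpa using e)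
    have hpr : ∀ x ∈ S, x ∈ R → IsScalarMap (y' * x) → c • y' ∈ Submodule.span F (S : Set E) := by
      intro x hxS hx hs
      obtain ⟨d, hd⟩ := h.mul_eq_smul hy' hs
      have hd0 : d ≠ 0 := fun e => h.ne_zero hx (by rw [hd, e, zero_smul])
      rw [show c • y' = (c * d⁻¹) • x by rw [hd, smul_smul, mul_assoc, inv_mul_cancel₀ hd0, mul_one]]
      exact hin _ x hxS
    by_cases h1 : IsScalarMap (y' * a)
    · exact hpr a (by simp [hS]) ha h1
    by_cases h2 : IsScalarMap (y' * b)
    · exact hpr b (by simp [hS]) hb h2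
    exact hpr (a * b) (by simp [hS]) (h.mul_mem _ ha _ hb)
      (hcon y' hy' hyy' (hcomm hya) (hcomm hyb) hys' h1 h2)
  have h1 := h.exists_comm_two ha hb
  have h2 : finrank F (Submodule.span F (S : Set E)) ≤ 4 :=
    (finrank_span_finset_le_card S).trans Finset.card_le_four
  have h4 := Submodule.finrank_mono hle
  rw [Module.finrank_linearMap] at h1
  nlinarith

/-- The inverse of a map normalising the system normalises it. -/
theorem nor_inverse [Finite F] [Nontrivial V] {Γ : Subgroup Eˣ} {g g' : E} (hg : InG Γ g) (h1 : g * g' = 1)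
    (h2 : g' * g = 1) (hN : Nor R g) : Nor R g' := by
  classical
  haveI : Finite E := Module.finite_of_finite F
  haveI : Finite R := Finite.of_injective Subtype.val Subtype.val_injective
  have hm : ∀ x : R, g * (x : E) * g' ∈ R := fun x => by
    obtain ⟨y, hy, e⟩ := hN x x.2
    rwa [e, mul_assoc, h1, mul_one]
  have hinj : Function.Injective fun x : R => (⟨g * (x : E) * g', hm x⟩ : R) := fun x y e => Subtype.ext (by
    have := congrArg (fun z => g' * z * g) (congrArg Subtype.val e)
    simpa [conj_cancel h2] using this)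
  intro x hx
  obtain ⟨⟨y, hy⟩, e⟩ := (Finite.injective_iff_surjective.1 hinj) ⟨x, hx⟩
  refine ⟨y, hy, ?_⟩
  have e' : g * y * g' = x := congrArg Subtype.val e
  rw [← e', ← mul_assoc, ← mul_assoc, h2, one_mul]

variable [Finite F] [Nontrivial V] (hn : (finrank F V : F) ≠ 0) (h3 : 3 ≤ finrank F V)
  {Γ : Subgroup (Module.End F V)ˣ} (hΓ : Ambient i R Γ) (hC : CentralNor R Γ)
include hΓ hC

/-- An element of the group commuting up to a sign with a non-scalar member normalises the system. -/
theorem nor_of_pm {f m : E} (hf : InG Γ f) (hm : m ∈ R) (hms : ¬ IsScalarMap m) (hp : PM f m) : Nor R f := by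
  obtain ⟨m', hm', hmm', hms', c, hc, rfl⟩ := h.exists_invol hm hms
  have hp' : PM f m' := by
    have := hp.smul_right c⁻¹
    rwa [inv_smul_smul₀ hc] at this
  rcases hp' with e | e
  · exact hC m' hm' hmm' hms' f hf e
  obtain ⟨b, hb, hbm⟩ := h.exists_anti hm' hms'
  obtain ⟨t, ht, hbb⟩ := h.sq_sign hb
  have hbf := hC m' hm' hmm' hms' (b * f) ((hΓ.mem b hb).mul hf) (by
    rw [mul_assoc, e, mul_neg, ← mul_assoc, hbm, neg_mul, neg_neg, mul_assoc])
  have hfe : f = t • (b * (b * f)) := by
    rw [← mul_assoc, hbb, smul_mul_assoc, one_mul, smul_smul]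
    rcases ht with rfl | rfl <;> simp
  rw [hfe]
  exact ((h.nor_mem hb).mul hbf).smul t

include hn h3

/-- Either `g` normalises the system or a given member is conjugate, up to a scalar, to `g a g'`. -/
theorem nor_or_conj {a r g g' : E} (ha : a ∈ R) (haa : a * a = 1) (has : ¬ IsScalarMap a) (hr : r ∈ R)
    (hrr : r * r = 1) (hrs : ¬ IsScalarMap r) (hg : InG Γ g) (h1 : g * g' = 1) (h2 : g' * g = 1) :
    Nor R g ∨ ∃ k k' : E, InG Γ k ∧ k * k' = 1 ∧ k' * k = 1 ∧
      (∀ c : E, r * c = c * r → g * a * g' * c = c * (g * a * g') → k * c = c * k ∧ k' * c = c * k') ∧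
      ∃ l : F, l ≠ 0 ∧ k * r * k' = l • (g * a * g') := by
  have hsG : InG Γ (g * a * g') := InG.conj hg (hΓ.mem a ha) h1
  have hss : g * a * g' * (g * a * g') = (1 : F) • 1 := by rw [conj_mul h2, haa, mul_one, h1, one_smul]
  rcases pair_dichotomy (hΓ.mem r hr) hsG (α := 1) (by rw [hrr, one_smul]) hss with
    hl | ⟨z, hz, hzs, -, hzr, hzsg, -, k, k', hk, k1, k2, -, l, hl, e⟩
  · exact .inr hl
  refine .inl (h.nor_of_conj_mem hn h3 hΓ hC hg h1 h2 ha haa has
    (h.conj_mem_of_nor hn h3 hΓ hC hg h1 h2 ha haa ?_))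
  have hnz := nor_of_pm h hΓ hC hz hr hrs hzr
  -- the product is a multiple of a member
  obtain ⟨m, hm, d, hd, hzm⟩ : ∃ m ∈ R, ∃ d : F, d ≠ 0 ∧ r * z = d • m := by
    rcases e with e | e
    · exact ⟨k * r * k', h.conj_mem_of_nor hn h3 hΓ hC hk k1 k2 hr hrr
        (by rw [e]; exact ((h.nor_mem hr).mul hnz).smul l), l⁻¹, inv_ne_zero hl, by rw [e, inv_smul_smul₀ hl]⟩
    · rw [conj_comp] at e
      exact ⟨(k * g) * a * (g' * k'), h.conj_mem_of_nor hn h3 hΓ hC (hk.mul hg) (comp_inv k1 h1)
        (comp_inv h2 k2) ha haa (by rw [e]; exact ((h.nor_mem hr).mul hnz).smul l), l⁻¹, inv_ne_zero hl,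
        by rw [e, inv_smul_smul₀ hl]⟩
  have hzm' : z = d • (r * m) := by rw [← mul_smul_comm, ← hzm, mul_cancel_member h hrr]
  refine nor_of_pm h hΓ hC hsG (h.mul_mem _ hr _ hm) (fun hc => hzs (hzm' ▸ hc.smul d)) ?_
  have := hzsg.symm.smul_right d⁻¹
  rwa [hzm', inv_smul_smul₀ hd] at this

/-- The centraliser of a sign change normalises the system. -/
theorem nor_of_comm_cz (hn0 : (finrank F V : F) ≠ 0) (h8 : 8 ≤ finrank F V) {a b g : E} (ha : a ∈ R)
    (haa : a * a = 1) (hb : b ∈ R) (hab : b * a = a * b) (has : ¬ IsScalarMap a) (hbs : ¬ IsScalarMap b)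
    (habs : ¬ IsScalarMap (a * b)) (hg : InG Γ g) (hgc : g * cz a b = cz a b * g) : Nor R g := by
  obtain ⟨g', hg', h1, h2⟩ := hg.exists_inv
  have hgc' : g' * cz a b = cz a b * g' := comm_inv h1 h2 hgc
  have hac : a * cz a b = cz a b * a := cz_comm_of rfl hab.symm
  have hsc : g * a * g' * cz a b = cz a b * (g * a * g') := commute_conj hgc hgc' hac
  obtain ⟨y, hy, hyy, hya, hyb, hys, hyout⟩ := exists_outside h h8 ha hb
  have hyc : y * cz a b = cz a b * y := cz_comm_of hya hyb
  rcases nor_or_conj h hn h3 hΓ hC ha haa has ha haa has hg h1 h2 with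
    hN | ⟨k, k', -, k1, k2, kc, l, hl, ek⟩
  · exact hN
  rcases nor_or_conj h hn h3 hΓ hC ha haa has hy hyy hys hg h1 h2 with
    hN | ⟨m, m', -, m1, m2, mc, μ, hμ, em⟩
  · exact hN
  exfalso
  obtain ⟨kc1, kc2⟩ := kc _ hac hsc
  obtain ⟨mc1, mc2⟩ := mc _ hyc hsc
  have e1 : LinearMap.trace F V (a * cz a b) = l * LinearMap.trace F V (g * a * g' * cz a b) := by
    rw [← trace_conj (g := k) (g' := k') k2 (f := a * cz a b), ← conj_mul k2, ek, kc1, mul_assoc (cz a b), k1,
      mul_one, smul_mul_assoc, map_smul, smul_eq_mul]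
  have e2 : LinearMap.trace F V (y * cz a b) = μ * LinearMap.trace F V (g * a * g' * cz a b) := by
    rw [← trace_conj (g := m) (g' := m') m2 (f := y * cz a b), ← conj_mul m2, em, mc1, mul_assoc (cz a b), m1,
      mul_one, smul_mul_assoc, map_smul, smul_eq_mul]
  rw [trace_a_cz h ha haa hb has hbs habs] at e1
  rw [trace_mul_cz h ha hb hy hys hyout.1 hyout.2.1 hyout.2.2] at e2
  rw [(mul_eq_zero.1 e2.symm).resolve_left hμ, mul_zero] at e1
  exact mul_ne_zero (inv_ne_zero h.two_ne) hn0 e1

/-- An element carrying a sign change to an element normalising the system normalises it. -/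
theorem nor_of_conj_cz (hn0 : (finrank F V : F) ≠ 0) (h8 : 8 ≤ finrank F V) {a b g g' : E} (ha : a ∈ R)
    (haa : a * a = 1) (hb : b ∈ R) (hbb : b * b = 1) (hab : b * a = a * b) (has : ¬ IsScalarMap a)
    (hbs : ¬ IsScalarMap b) (habs : ¬ IsScalarMap (a * b)) (hg : InG Γ g) (h1 : g * g' = 1) (h2 : g' * g = 1)
    (he : Nor R (g * cz a b * g')) : Nor R g := by
  have hcc : g * cz a b * g' * (g * cz a b * g') = 1 := by
    rw [conj_mul h2, cz_sq h.two_ne haa hbb hab, mul_one, h1]
  have hne : (2 : F)⁻¹ * (finrank F V : F) ≠ 0 := mul_ne_zero (inv_ne_zero h.two_ne) hn0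
  rcases h.exists_fixed hn h3 hcc he with ⟨r, hr, c, e⟩ | ⟨y, hy, hyy, hys, hey⟩
  · exfalso
    by_cases hrs : IsScalarMap r
    · obtain ⟨d, rfl⟩ := hrs
      have hc : cz a b = (c * d) • (1 : E) := by
        rw [← conj_cancel (f := cz a b) h2, e, smul_smul, mul_smul_comm, smul_mul_assoc, mul_one, h2]
      have := trace_a_cz h ha haa hb has hbs habs
      rw [hc, mul_smul_comm, mul_one, map_smul, h.trace_eq_zero ha has, smul_zero] at this
      exact hne this.symm
    · apply hne
      rw [← trace_cz h ha hb has hbs habs, ← trace_conj (g := g) (g' := g') h2, e, map_smul,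
        h.trace_eq_zero hr hrs, smul_zero]
  have hy'G : InG Γ (g' * y * g) := InG.conj (hg.inv h1) (hΓ.mem y hy) h2
  have hy'n : Nor R (g' * y * g) := nor_of_comm_cz h hn h3 hΓ hC hn0 h8 ha haa hb hab has hbs habs hy'G (by
    rw [← conj_cancel (f := y) h1, conj_mul h2, conj_mul h2] at hey
    have := congrArg (fun f => g' * f * g) hey
    simp only [conj_cancel h2] at this
    exact this.symm)
  have hmem : g' * y * g ∈ R := h.conj_mem_of_nor hn h3 hΓ hC (hg.inv h1) h2 h1 hy hyy hy'n
  refine h.nor_of_conj_mem hn h3 hΓ hC hg h1 h2 hmem ?_ (conj_nonscalar h2 h1 hys) ?_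
  · rw [conj_mul h1, hyy, mul_one, h2]
  · rw [conj_cancel h1]; exact hy

/-- With centralisers of members normalising the system, the whole group does. -/
theorem nor_of_centralNor (hn0 : (finrank F V : F) ≠ 0) (h8 : 8 ≤ finrank F V) : ∀ g : E, InG Γ g → Nor R g := by
  intro g hg
  obtain ⟨g', hg', h1, h2⟩ := hg.exists_inv
  obtain ⟨a, ha, haa, -, -, has, -⟩ := h.exists_comm_invol h3 h.one_mem h.one_mem 1
  obtain ⟨b, hb, hbb, hba, -, hbs, hbn⟩ := h.exists_comm_invol h3 ha ha a
  have habs : ¬ IsScalarMap (a * b) := fun hc => by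
    obtain ⟨c, hc⟩ := h.mul_eq_smul ha hc
    exact hbn c hc
  refine nor_of_conj_cz h hn h3 hΓ hC hn0 h8 ha haa hb hbb hba has hbs habs hg h1 h2 ?_
  obtain ⟨hczG, -⟩ := cz_mem_group h hΓ ha haa hb hbb hba
  have hcz2 := cz_sq h.two_ne haa hbb hba
  have heG : InG Γ (g * cz a b * g') := InG.conj hg hczG h1
  have hee : g * cz a b * g' * (g * cz a b * g') = 1 := by rw [conj_mul h2, hcz2, mul_one, h1]
  have hne : (2 : F)⁻¹ * (finrank F V : F) ≠ 0 := mul_ne_zero (inv_ne_zero h.two_ne) hn0
  rcases pair_dichotomy (hΓ.mem a ha) heG (α := 1) (β := 1) (by rw [haa, one_smul]) (by rw [hee, one_smul]) with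
    ⟨k, k', -, -, k2, -, l, hl, e⟩ | ⟨z, hz, hzs, -, hza, hze, -, k, k', hk, k1, k2, -, l, hl, e⟩
  · exfalso
    have h0 : l * ((2 : F)⁻¹ * (finrank F V : F)) = 0 := by
      rw [← trace_cz h ha hb has hbs habs, ← trace_conj (g := g) (g' := g') h2, ← smul_eq_mul, ← map_smul, ← e,
        trace_conj k2, h.trace_eq_zero ha has]
    exact (mul_eq_zero.1 h0).elim hl hne
  have hnz := nor_of_pm h hΓ hC hz ha has hza
  -- once `z` is a multiple of a member the claim follows
  have fin : ∀ m ∈ R, ∀ d : F, d ≠ 0 → a * z = d • m → Nor R (g * cz a b * g') := by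
    intro m hm d hd hzm
    have hzm' : z = d • (a * m) := by rw [← mul_smul_comm, ← hzm, mul_cancel_member h haa]
    refine nor_of_pm h hΓ hC heG (h.mul_mem _ ha _ hm) (fun hc => hzs (hzm' ▸ hc.smul d)) ?_
    have := hze.symm.smul_right d⁻¹
    rwa [hzm', inv_smul_smul₀ hd] at this
  rcases e with e | e
  · exact fin _ (h.conj_mem_of_nor hn h3 hΓ hC hk k1 k2 ha haa (by rw [e]; exact ((h.nor_mem ha).mul hnz).smul l))
      l⁻¹ (inv_ne_zero hl) (by rw [e, inv_smul_smul₀ hl])
  rw [conj_comp] at e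
  have hu1 : (k * g) * (g' * k') = 1 := comp_inv k1 h1
  have hu2 : (g' * k') * (k * g) = 1 := comp_inv h2 k2
  have hwN : Nor R ((k * g) * cz a b * (g' * k')) := by rw [e]; exact ((h.nor_mem ha).mul hnz).smul l
  have hkN : Nor R (k * g) := nor_of_conj_cz h hn h3 hΓ hC hn0 h8 ha haa hb hbb hba has hbs habs (hk.mul hg) hu1 hu2
    hwN
  have hmem : ∀ x ∈ R, (k * g) * x * (g' * k') ∈ R := fun x hx => by
    obtain ⟨y, hy, ey⟩ := hkN x hx
    rwa [ey, mul_assoc, hu1, mul_one]
  obtain ⟨a', ha'⟩ : ∃ a' : E, a' = (k * g) * a * (g' * k') := ⟨_, rfl⟩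
  obtain ⟨b', hb'⟩ : ∃ b' : E, b' = (k * g) * b * (g' * k') := ⟨_, rfl⟩
  rw [cz_conj hu1 hu2, ← ha', ← hb'] at e
  have ha'R : a' ∈ R := ha' ▸ hmem a ha
  have hb'R : b' ∈ R := hb' ▸ hmem b hb
  have haa' : a' * a' = 1 := by rw [ha', conj_mul hu2, haa, mul_one, hu1]
  have hbb' : b' * b' = 1 := by rw [hb', conj_mul hu2, hbb, mul_one, hu1]
  have hba' : b' * a' = a' * b' := by rw [ha', hb', conj_mul hu2, conj_mul hu2, hba]
  have has' : ¬ IsScalarMap a' := ha' ▸ conj_nonscalar hu1 hu2 has
  have hbs' : ¬ IsScalarMap b' := hb' ▸ conj_nonscalar hu1 hu2 hbs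
  have habs' : ¬ IsScalarMap (a' * b') := by rw [ha', hb', conj_mul hu2]; exact conj_nonscalar hu1 hu2 habs
  set w := cz a' b' with hw
  have hwtr : LinearMap.trace F V w = (2 : F)⁻¹ * (finrank F V : F) := trace_cz h ha'R hb'R has' hbs' habs'
  have hww : w * w = 1 := cz_sq h.two_ne haa' hbb' hba'
  -- `a` commutes with the sign change
  have haw : a * w = w * a := by
    have h5 : PM a (l • (a * z)) := ((pm_self a).mul_right hza.symm).smul_right l
    rw [← e] at h5
    refine h5.resolve_right fun e' => hne ?_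
    rw [← hwtr]
    have h6 : LinearMap.trace F V (a * w * a) = LinearMap.trace F V w := trace_conj haa
    rw [e', neg_mul, mul_assoc, haa, mul_one, map_neg] at h6
    have : (2 : F) * LinearMap.trace F V w = 0 := by linear_combination -h6
    exact (mul_eq_zero.1 this).resolve_left h.two_ne
  have hzw : z = l⁻¹ • (a * w) := by
    rw [e, mul_smul_comm, mul_cancel_member h haa, inv_smul_smul₀ hl]
  have haw2 : a * w * (a * w) = 1 := by
    rw [mul_assoc, ← mul_assoc w a w, ← haw, mul_assoc a w w, hww, mul_one, haa]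
  have hzG : InG Γ (a * w) := by
    have := InG.smul hΓ hz hl
    rwa [hzw, smul_inv_smul₀ hl] at this
  have hze' : PM (g * cz a b * g') (a * w) := by
    have := hze.symm.smul_right l
    rwa [hzw, smul_inv_smul₀ hl] at this
  by_cases hline : a * w = cz a' (-b') ∨ a * w = -cz a' (-b') ∨ a * w = cz b' (-a') ∨ a * w = -cz b' (-a') ∨
      a * w = cz (-a') (-b') ∨ a * w = -cz (-a') (-b')
  · -- `z` is a sign change
    have key : ∀ u v : E, u ∈ R → u * u = 1 → v ∈ R → v * v = 1 → v * u = u * v → ¬ IsScalarMap u →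
        ¬ IsScalarMap v → ¬ IsScalarMap (u * v) → (a * w = cz u v ∨ a * w = -cz u v) →
        Nor R (g * cz a b * g') := by
      intro u v hu huu hv hvv hvu hus hvs huvs hcase
      refine nor_of_comm_cz h hn h3 hΓ hC hn0 h8 hu huu hv hvu hus hvs huvs heG ?_
      have hze'' : PM (g * cz a b * g') (cz u v) := by
        rcases hcase with hc | hc <;> rw [hc] at hze'
        · exact hze'
        · have := hze'.smul_right (-1)
          rwa [neg_smul, one_smul, neg_neg] at this
      refine hze''.resolve_right fun e' => hne ?_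
      rw [← trace_cz h hu hv hus hvs huvs]
      have h6 : LinearMap.trace F V (g * cz a b * g' * cz u v * (g * cz a b * g')) = LinearMap.trace F V (cz u v) :=
        trace_conj hee
      rw [e', neg_mul, mul_assoc, hee, mul_one, map_neg] at h6
      have : (2 : F) * LinearMap.trace F V (cz u v) = 0 := by linear_combination -h6
      exact (mul_eq_zero.1 this).resolve_left h.two_ne
    have hns : ∀ {x : E}, ¬ IsScalarMap x → ¬ IsScalarMap (-x) := fun hx hc => hx (by simpa using hc.smul (-1))
    have hna' : -a' * -a' = 1 := by rw [neg_mul_neg, haa']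
    have hnb' : -b' * -b' = 1 := by rw [neg_mul_neg, hbb']
    rcases hline with hc | hc | hc | hc | hc | hc
    · exact key a' (-b') ha'R haa' (h.neg_mem hb'R) hnb' (by rw [neg_mul, mul_neg, hba']) has' (hns hbs')
        (by rw [mul_neg]; exact hns habs') (.inl hc)
    · exact key a' (-b') ha'R haa' (h.neg_mem hb'R) hnb' (by rw [neg_mul, mul_neg, hba']) has' (hns hbs')
        (by rw [mul_neg]; exact hns habs') (.inr hc)
    · exact key b' (-a') hb'R hbb' (h.neg_mem ha'R) hna' (by rw [neg_mul, mul_neg, hba']) hbs' (hns has')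
        (by rw [mul_neg, hba']; exact hns habs') (.inl hc)
    · exact key b' (-a') hb'R hbb' (h.neg_mem ha'R) hna' (by rw [neg_mul, mul_neg, hba']) hbs' (hns has')
        (by rw [mul_neg, hba']; exact hns habs') (.inr hc)
    · exact key (-a') (-b') (h.neg_mem ha'R) hna' (h.neg_mem hb'R) hnb' (by rw [neg_mul_neg, neg_mul_neg, hba'])
        (hns has') (hns hbs') (by rw [neg_mul_neg]; exact habs') (.inl hc)
    · exact key (-a') (-b') (h.neg_mem ha'R) hna' (h.neg_mem hb'R) hnb' (by rw [neg_mul_neg, neg_mul_neg, hba'])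
        (hns has') (hns hbs') (by rw [neg_mul_neg]; exact habs') (.inr hc)
  simp only [not_or] at hline
  obtain ⟨hl1, hl2, hl3, hl4, hl5, hl6⟩ := hline
  -- `a` lies outside the span of the two members
  have hone : ∀ {x : E}, x ∈ R → x * x = 1 → IsScalarMap (a * x) → a = x ∨ a = -x := by
    intro x hx hxx hs
    obtain ⟨c, hc⟩ := h.mul_eq_smul ha hs
    rw [hc, smul_mul_smul_comm, haa] at hxx
    have : (c * c - 1) • (1 : E) = 0 := by rw [sub_smul, hxx, one_smul, sub_self]
    rcases mul_self_eq_one_iff.1 (sub_eq_zero.1 ((smul_eq_zero.1 this).resolve_right one_ne_zero)) with rfl | rfl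
    · exact .inl (by rw [hc, one_smul])
    · exact .inr (by rw [hc, neg_smul, one_smul, neg_neg])
  have hA : ¬ IsScalarMap (a * a') := fun hs => (hone ha'R haa' hs).elim
    (fun e0 => hl1 (by rw [e0, hw, a_mul_cz haa'])) (fun e0 => hl2 (by rw [e0, hw, neg_mul, a_mul_cz haa']))
  have hB : ¬ IsScalarMap (a * b') := fun hs => (hone hb'R hbb' hs).elim
    (fun e0 => hl3 (by rw [e0, hw, cz_swap hba', a_mul_cz hbb']))
    (fun e0 => hl4 (by rw [e0, hw, cz_swap hba', neg_mul, a_mul_cz hbb']))
  have hABsq : a' * b' * (a' * b') = 1 := by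
    rw [← mul_assoc, mul_assoc a' b' a', hba', ← mul_assoc, haa', one_mul, hbb']
  have hAB : ¬ IsScalarMap (a * (a' * b')) := fun hs => (hone (h.mul_mem _ ha'R _ hb'R) hABsq hs).elim
    (fun e0 => hl6 (by rw [e0, hw, prod_mul_cz h.two_ne haa' hbb' hba']))
    (fun e0 => hl5 (by rw [e0, hw, neg_mul, prod_mul_cz h.two_ne haa' hbb' hba', neg_neg]))
  have hatr : LinearMap.trace F V (a * w) = 0 := trace_mul_cz h ha'R hb'R ha has hA hB hAB
  -- the conjugate of `z` under `g'`
  have hz'G : InG Γ (g' * (a * w) * g) := InG.conj hg' hzG h2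
  have hz'N : Nor R (g' * (a * w) * g) := by
    refine nor_of_comm_cz h hn h3 hΓ hC hn0 h8 ha haa hb hba has hbs habs hz'G ?_
    have h5 : PM (cz a b) (g' * (a * w) * g) := by
      have := hze'.conj (g := g') (g' := g) h1
      rwa [conj_cancel h2] at this
    refine (h5.resolve_right fun e' => hne ?_).symm
    have hz2 : g' * (a * w) * g * (g' * (a * w) * g) = 1 := by rw [conj_mul h1, haw2, mul_one, h2]
    rw [← trace_cz h ha hb has hbs habs]
    have h6 : LinearMap.trace F V (g' * (a * w) * g * cz a b * (g' * (a * w) * g)) = LinearMap.trace F V (cz a b) :=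
      trace_conj hz2
    rw [mul_assoc _ (cz a b), e', mul_neg, ← mul_assoc, hz2, one_mul, map_neg] at h6
    have : (2 : F) * LinearMap.trace F V (cz a b) = 0 := by linear_combination -h6
    exact (mul_eq_zero.1 this).resolve_left h.two_ne
  have hz'2 : g' * (a * w) * g * (g' * (a * w) * g) = 1 := by rw [conj_mul h1, haw2, mul_one, h2]
  rcases h.exists_fixed hn h3 hz'2 hz'N with ⟨r, hr, c, er⟩ | ⟨r, hr, hrr, hrs, hzr⟩
  · exfalso
    have hzR : Nor R (a * w) := (h.nor_mem ha).mul (cz_mem_group h hΓ ha'R haa' hb'R hbb' hba').2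
    have hcr : g' * (a * w) * g ∈ R := by rw [er] at hz'2 ⊢; exact h.mem_of_smul hr hz'2
    have := h.conj_mem_of_nor hn h3 hΓ hC hg h1 h2 hcr hz'2 (by rwa [conj_cancel h1])
    rw [conj_cancel h1] at this
    have htr : LinearMap.trace F V (a * (a * w)) ≠ 0 := by rw [mul_cancel_member h haa, hwtr]; exact hne
    obtain ⟨d, hd⟩ := h.eq_smul_of_trace ha this htr
    have hws : w = d • (1 : E) := by
      rw [← mul_cancel_member h (a := a) (f := w) haa, hd, mul_smul_comm, haa]
    have := trace_a_cz h ha'R haa' hb'R has' hbs' habs'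
    rw [← hw, hws, mul_smul_comm, mul_one, map_smul, h.trace_eq_zero ha'R has', smul_zero] at this
    exact hne this.symm
  suffices hN : Nor R g by
    exact (hN.mul (cz_mem_group h hΓ ha haa hb hbb hba).2).mul (nor_inverse h hg h1 h2 hN)
  have hs2 : g * r * g' * (a * w) = a * w * (g * r * g') := by
    rw [← conj_cancel (f := a * w) h1, conj_mul h2, conj_mul h2, hzr]
  rcases nor_or_conj h hn h3 hΓ hC hr hrr hrs ha haa has hg h1 h2 with
    hN | ⟨m, m', -, m1, m2, mc, μ, hμ, em⟩
  · exact hN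
  rcases nor_or_conj h hn h3 hΓ hC hr hrr hrs ha'R haa' has' hg h1 h2 with
    hN | ⟨q, q', -, q1, q2, qc, ν, hν, eq'⟩
  · exact hN
  exfalso
  have haz : a * (a * w) = a * w * a := by rw [mul_assoc a w a, ← haw]
  have ha'a : a' * a = a * a' := by
    rcases h.comm a ha a' ha'R with e' | e'
    · exact e'
    exfalso
    -- then the trace of `a' w` would vanish
    refine hne ?_
    have h7 := trace_a_cz h ha'R haa' hb'R has' hbs' habs'
    rw [← hw] at h7
    rw [← h7]
    have h6 : LinearMap.trace F V (a * (a' * w) * a) = LinearMap.trace F V (a' * w) := trace_conj haa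
    rw [← mul_assoc, mul_assoc (a * a'), ← haw, ← mul_assoc, show a * a' = -(a' * a) by rw [e', neg_neg],
      neg_mul, mul_assoc a' a a, haa, mul_one, neg_mul, map_neg] at h6
    have : (2 : F) * LinearMap.trace F V (a' * w) = 0 := by linear_combination -h6
    exact (mul_eq_zero.1 this).resolve_left h.two_ne
  have ha'w : a' * w = w * a' := cz_comm_of rfl hba'.symm
  have ha'z : a' * (a * w) = a * w * a' := by
    rw [← mul_assoc, ha'a, mul_assoc, ha'w, mul_assoc]
  obtain ⟨mc1, -⟩ := mc _ haz hs2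
  obtain ⟨qc1, -⟩ := qc _ ha'z hs2
  have e1 : LinearMap.trace F V (a * (a * w)) = μ * LinearMap.trace F V (g * r * g' * (a * w)) := by
    rw [← trace_conj (g := m) (g' := m') m2 (f := a * (a * w)), ← conj_mul m2, em, mc1, mul_assoc (a * w), m1,
      mul_one, smul_mul_assoc, map_smul, smul_eq_mul]
  have e2 : LinearMap.trace F V (a' * (a * w)) = ν * LinearMap.trace F V (g * r * g' * (a * w)) := by
    rw [← trace_conj (g := q) (g' := q') q2 (f := a' * (a * w)), ← conj_mul q2, eq', qc1, mul_assoc (a * w), q1,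
      mul_one, smul_mul_assoc, map_smul, smul_eq_mul]
  have hzero : LinearMap.trace F V (a' * (a * w)) = 0 := by
    rw [← mul_assoc, ha'a]
    refine trace_mul_cz h ha'R hb'R (h.mul_mem _ ha _ ha'R) hA ?_ ?_ ?_
    · rwa [mul_assoc, haa', mul_one]
    · rwa [mul_assoc]
    · rwa [mul_assoc, ← mul_assoc a' a' b', haa', one_mul]
  rw [hzero] at e2
  rw [mul_cancel_member h haa, hwtr, (mul_eq_zero.1 e2.symm).resolve_left hν, mul_zero] at e1
  exact hne e1

/-- A group with small centralisers normalises the system. -/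
theorem nor_of_small (hn0 : (finrank F V : F) ≠ 0) (h8 : 8 ≤ finrank F V) (heven : Even (finrank F V))
    (hS : Small R Γ) : ∀ g : E, InG Γ g → Nor R g :=
  nor_of_centralNor h hn h3 hΓ (h.centralNor_of_small_or (.inl h8) hn0 (by omega) heven hΓ hS) hn0 h8

omit hn h3

end

end CfsgLib.Classical.PauliForm
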