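import Cfsg.Agent.Lib.Classical.PauliForm.Herm.Main
import Cfsg.Agent.Lib.Classical.PauliMax.Data
import Cfsg.Agent.Lib.Classical.HermMatrix
import Cfsg.Agent.Lib.Classical.AschPrime.UnitaryGroup

/-!
# Normalisers of two-groups of symplectic type in special unitary groups are maximal
-/

set_option autoImplicit false
set_option linter.unusedSectionVars false

namespace CfsgLib.Classical.PauliForm.Herm

open Module Matrix Cfsg Cfsg.Geo CfsgLib.Classical CfsgLib.Classical.PauliMax CfsgLib.Classical.AschPrime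
  CfsgLib.Classical.AschGen
open scoped MatrixGroups commutatorElement

section iso

variable {F : Type*} [Field F] {V : Type*} [AddCommGroup V] [Module F V] [FiniteDimensional F V] {σ : F →+* F}
  {B : V →ₛₗ[σ] V →ₗ[F] F}

/-- The invertible map of an isometry. -/
def isoUnit (B : V →ₛₗ[σ] V →ₗ[F] F) : isomGroup B →* (Module.End F V)ˣ where
  toFun g := ⟨isoEnd g, isoEnd g⁻¹, isoEnd_mul_inv g, isoEnd_inv_mul g⟩
  map_one' := Units.ext rfl
  map_mul' _ _ := Units.ext rfl

/-- A group with all transvections has all members of their closure. -/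
theorem tGroup_le_of_tv {Γ : Subgroup (Module.End F V)ˣ}
    (h : ∀ (w : V) (c : F), B w w = 0 → c + σ c = 0 → InG Γ (1 + c • (B w).smulRight w)) :
    tGroup B ≤ Γ.comap (isoUnit B) := by
  refine (Subgroup.closure_le _).2 ?_
  rintro g ⟨v, c, hg⟩
  obtain ⟨u, hu, e⟩ := h v c hg.1 hg.2.1
  rwa [SetLike.mem_coe, Subgroup.mem_comap, show isoUnit B g = u from Units.ext ((isoEnd_uTv hg).trans e.symm)]

end iso

variable {F : Type*} [Field F] {n : ℕ}

/-- A special unitary group does not normalise a unitary group of symplectic type. -/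
theorem not_suG_le_normalizer [Fintype F] {q : ℕ} (hF : Fintype.card F = q ^ 2) (hn : 4 ≤ n) {r : ℕ}
    {R : Subgroup (GL (Fin n) F)} (hR : SymType r R) (hRU : R ≤ Cfsg.GU n F q) :
    ¬ suG n F q ≤ subgroupNormalizer R := by
  intro hle
  have hnorm : ∀ g ∈ suG n F q, ∀ x ∈ R, g * x * g⁻¹ ∈ R := fun g hg x hx =>
    ((Subgroup.mem_normalizer_iff.1 (hle hg)) x).1 hx
  obtain ⟨hperf, hsimp⟩ := suG_perfect_and_normal hF (by omega : 3 ≤ n) (Or.inr hn)
  rcases hsimp (R ⊓ suG n F q) inf_le_right (fun h hh x hx =>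
      ⟨hnorm h hh x hx.1, Subgroup.mul_mem _ (Subgroup.mul_mem _ hh hx.2) (Subgroup.inv_mem _ hh)⟩) with h | h
  · refine algOf_comm_false (by omega : 2 ≤ n) hR.full fun x hx y _ => ?_
    have hz : ∀ g ∈ suG n F q, ∃ z, (∀ w, z * w = w * z) ∧ g * x * g⁻¹ = z * x := by
      intro g hg
      refine ⟨g * x * g⁻¹ * x⁻¹, scalars_comm (h ⟨Subgroup.mul_mem _ (hnorm g hg x hx) (Subgroup.inv_mem _ hx), ?_⟩),
        (inv_mul_cancel_right _ _).symm⟩
      refine mem_suG.2 ⟨mul_mem (mul_mem (mul_mem (mem_suG.1 hg).1 (hRU hx)) (inv_mem (mem_suG.1 hg).1))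
        (inv_mem (hRU hx)), ?_⟩
      rw [← Matrix.GeneralLinearGroup.val_det_apply, map_mul, map_mul, map_mul, map_inv, map_inv,
        mul_inv_cancel_comm, mul_inv_cancel, Units.val_one]
    have hle' : suG n F q ≤ Subgroup.centralizer {x} := by
      rw [← hperf, Subgroup.commutator_le]
      intro a ha b hb
      obtain ⟨z, hzc, e1⟩ := hz a ha
      obtain ⟨w, hwc, e2⟩ := hz b hb
      have h1 : (a * b) * x * (a * b)⁻¹ = z * w * x := by
        calc a * b * x * (a * b)⁻¹ = a * (b * x * b⁻¹) * a⁻¹ := by group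
          _ = w * (a * x * a⁻¹) := by rw [e2, ← mul_assoc a w x, ← hwc a]; simp only [mul_assoc]
          _ = z * w * x := by rw [e1, ← mul_assoc, hwc z]
      have h2 : (b * a) * x * (b * a)⁻¹ = z * w * x := by
        calc b * a * x * (b * a)⁻¹ = b * (a * x * a⁻¹) * b⁻¹ := by group
          _ = z * (b * x * b⁻¹) := by rw [e1, ← mul_assoc b z x, ← hzc b]; simp only [mul_assoc]
          _ = z * w * x := by rw [e2, ← mul_assoc]
      have h3 : Commute ⁅a, b⁆ (z * w * x) := by
        have e : ⁅a, b⁆ * (z * w * x) * ⁅a, b⁆⁻¹ = z * w * x := by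
          conv_lhs => rw [← h2, show ⁅a, b⁆ = a * b * (b * a)⁻¹ by rw [commutatorElement_def]; group]
          rw [← h1]
          group
        exact mul_inv_eq_iff_eq_mul.1 e
      have hzw : Commute ⁅a, b⁆ (z * w) := Commute.mul_right (hzc _).symm (hwc _).symm
      have h4 := hzw.inv_right.mul_right h3
      rw [inv_mul_cancel_left] at h4
      exact Subgroup.mem_centralizer_singleton_iff.2 h4
    obtain ⟨c, hc⟩ := suG_commutant hF (by omega) (x : Mat n F) fun g hg =>
      congrArg Units.val (Subgroup.mem_centralizer_singleton_iff.1 (hle' hg)).symm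
    exact scalars_comm (mem_scalars_of_eq (by omega) hc) y
  · refine suG_not_scalar hF (by omega : 3 ≤ n) ?_
    have hsR : suG n F q ≤ R := inf_eq_right.1 h
    rw [← hperf, Subgroup.commutator_le]
    exact fun a ha b hb => hR.comm a (hsR ha) b (hsR hb)

/-- The normaliser of a two-group of symplectic type with centre of order four, in dimension a multiple of eight,
is maximal in the special unitary group over a prime field congruent to three modulo four. -/
theorem symType_unitary_maximal [Fintype F] {p : ℕ} (hp : p.Prime) (hF : Fintype.card F = p ^ 2) (h4p : p % 4 = 3)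
    {m : ℕ} (hn : n = 2 ^ (m + 2)) (h8 : 8 ∣ n) {R : Subgroup (GL (Fin n) F)} (hR : SymType 2 R)
    (hRU : R ≤ Cfsg.GU n F p) :
    IsMaximalIn (Cfsg.GU n F p ⊓ specialLinear (Fin n) F)
      (subgroupNormalizer R ⊓ (Cfsg.GU n F p ⊓ specialLinear (Fin n) F)) := by
  classical
  have hFc : Nat.card F = p ^ 2 := by rw [Nat.card_eq_fintype_card, hF]
  obtain ⟨σ, hσ, hc⟩ := exists_frob hF
  obtain ⟨i, hi⟩ : ∃ i : F, i * i = -1 := by
    obtain ⟨i, hi⟩ := FiniteField.isSquare_neg_one_iff.2 (by
      rw [hF, Nat.pow_mod, h4p]; decide : Fintype.card F % 4 ≠ 3)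
    exact ⟨i, hi.symm⟩
  have hσi : σ i = -i := sigma_i h4p hσ hi
  have hn4 : 4 ≤ n := by rw [hn, pow_add]; have := Nat.one_le_two_pow (n := m); omega
  have hn0 : 0 < n := by omega
  have : NeZero n := ⟨hn0.ne'⟩
  have : Nontrivial (Fin n → F) := Function.nontrivial
  have h := pauli_of_symType hn0 hR hi
  set B := stdHerm σ n with hBdef
  have hB : IsHermitian B := stdHerm_isHermitian hc n
  have hN : B.SeparatingRight := stdHerm_sepRight n
  set ψ : Matrix (Fin n) (Fin n) F ≃ₐ[F] Module.End F (Fin n → F) := Matrix.toLinAlgEquiv' with hψ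
  have hψa : ∀ (A : Matrix (Fin n) (Fin n) F) (u : Fin n → F), ψ A u = A *ᵥ u := fun A u => by
    rw [hψ, Matrix.toLinAlgEquiv'_apply]
  have hGU : ∀ g : GL (Fin n) F, g ∈ Cfsg.GU n F p ↔
      ∀ u v, B (ψ (g : Matrix (Fin n) (Fin n) F) u) (ψ (g : Matrix (Fin n) (Fin n) F) v) = B u v := fun g => by
    simp only [hψa]
    exact mem_GU_iff hσ
  have hRiso : ∀ r ∈ mapSet R, ∀ u v, B (r u) (r v) = B u v := by
    rintro _ ⟨_, ⟨x, hx, rfl⟩, rfl⟩
    exact (hGU x).1 (hRU hx)
  have hfr : finrank F (Fin n → F) = n := Module.finrank_fin_fun F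
  have hdet : ∀ M : Matrix (Fin n) (Fin n) F, LinearMap.det (ψ M) = M.det := fun M => by
    show LinearMap.det (Matrix.toLin' M) = _
    exact LinearMap.det_toLin' M
  have hS : Cfsg.GU n F p ⊓ specialLinear (Fin n) F = suG n F p := rfl
  rw [hS]
  -- normalising maps
  have nor_norm : ∀ g : GL (Fin n) F, Nor (mapSet R) (ψ (g : Matrix (Fin n) (Fin n) F)) →
      g ∈ subgroupNormalizer R := by
    intro g hg
    have hmaps : ∀ x ∈ R, g * x * g⁻¹ ∈ R := by
      intro x hx
      obtain ⟨y, hy, e⟩ := hg _ (mem_mapSet hx)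
      refine mem_of_mapSet ?_
      rw [Units.val_mul, Units.val_mul, map_mul, map_mul, e, mul_assoc, ← map_mul, Units.mul_inv, map_one, mul_one]
      exact hy
    have : Finite R := inferInstance
    have hbij : Function.Bijective fun x : R => (⟨g * x * g⁻¹, hmaps x x.2⟩ : R) :=
      Finite.injective_iff_bijective.1 fun x y e => Subtype.ext (by
        have := congrArg Subtype.val e
        simpa using this)
    rw [subgroupNormalizer, Subgroup.mem_normalizer_iff]
    refine fun x => ⟨hmaps x, fun hx => ?_⟩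
    obtain ⟨⟨y, hy⟩, e⟩ := hbij.2 ⟨_, hx⟩
    have e' : g * y * g⁻¹ = g * x * g⁻¹ := congrArg Subtype.val e
    rwa [← mul_left_cancel (mul_right_cancel e')]
  refine ⟨lt_of_le_of_ne inf_le_right fun e => not_suG_le_normalizer hF hn4 hR hRU (e.ge.trans inf_le_left),
    fun M hNM hMS => ?_⟩
  have : (scalars (Fin n) F).Normal := ⟨fun z hz g => by rwa [← scalars_comm hz g, mul_inv_cancel_right]⟩
  let Φ : GL (Fin n) F →* (Module.End F (Fin n → F))ˣ := Units.map ψ.toAlgHom.toRingHom.toMonoidHom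
  set Γ := (M ⊔ scalars (Fin n) F).map Φ with hΓdef
  have inΓ : ∀ g ∈ M ⊔ scalars (Fin n) F, InG Γ (ψ (g : Matrix (Fin n) (Fin n) F)) := fun g hg =>
    ⟨Φ g, Subgroup.mem_map_of_mem _ hg, rfl⟩
  have hscal : ∀ c : F, c ≠ 0 → InG Γ (c • 1) := fun c hc => by
    have := inΓ _ (Subgroup.mem_sup_right (show _ ∈ scalars (Fin n) F from ⟨Units.mk0 c hc, rfl⟩))
    rwa [scalar_unit, map_smul, map_one, Units.val_mk0] at this
  have hsim : ∀ g : Module.End F (Fin n → F), InG Γ g →
      ∃ μ : F, μ ≠ 0 ∧ ∀ u v, B (g u) (g v) = μ * B u v := by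
    rintro g ⟨u, hu, rfl⟩
    obtain ⟨k, hk, rfl⟩ := Subgroup.mem_map.1 hu
    obtain ⟨a, ha, z, hz, rfl⟩ := Subgroup.mem_sup_of_normal_right.1 hk
    obtain ⟨c, hc'⟩ := (mem_scalars_iff z).1 hz
    refine ⟨σ (c : F) * (c : F), mul_ne_zero ((map_ne_zero σ).2 c.ne_zero) c.ne_zero, fun x y => ?_⟩
    show B (ψ ((a * z : GL (Fin n) F) : Matrix (Fin n) (Fin n) F) x)
      (ψ ((a * z : GL (Fin n) F) : Matrix (Fin n) (Fin n) F) y) = _
    rw [Units.val_mul, map_mul, hc', map_smul, map_one]
    simp only [Module.End.mul_apply, LinearMap.smul_apply, Module.End.one_apply, map_smul, map_smulₛₗ,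
      smul_eq_mul, (hGU a).1 (mem_suG.1 (hMS ha)).1]
    ring
  have h1i : (1 + i) ≠ 0 := fun e => h.two_ne (by linear_combination (1 - i) * e + hi)
  have h1i' : (1 - i) ≠ 0 := fun e => h.two_ne (by linear_combination (1 + i) * e + hi)
  have hquar : ∀ a ∈ mapSet R, a * a = 1 → InG Γ (quarter i a) := by
    intro a ha haa
    by_cases has : IsScalarMap a
    · obtain ⟨c, rfl⟩ := has
      rw [quarter, smul_smul, show (1 : Module.End F (Fin n → F)) + (i * c) • 1 = (1 + i * c) • 1 by
        rw [add_smul, one_smul]]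
      refine hscal _ fun e => ?_
      have hc : c * c = 1 := by
        have : (c * c - 1) • (1 : Module.End F (Fin n → F)) = 0 := by
          rw [smul_mul_smul_comm, one_mul] at haa
          linear_combination (norm := module) haa
        exact sub_eq_zero.1 ((smul_eq_zero.1 this).resolve_right one_ne_zero)
      rcases mul_self_eq_one_iff.1 hc with rfl | rfl
      · exact h1i (by linear_combination e)
      · exact h1i' (by linear_combination e)
    set u := (1 + i)⁻¹ • quarter i a with hu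
    have hd : (ψ.symm u).det = 1 := by
      rw [← hdet, AlgEquiv.apply_symm_apply, hu, h.det_scaled_quarter (by rw [hfr]; exact h8) ha haa has]
    let g : GL (Fin n) F := Matrix.GeneralLinearGroup.mkOfDetNeZero (ψ.symm u) (by rw [hd]; exact one_ne_zero)
    have hgu : ψ (g : Matrix (Fin n) (Fin n) F) = u := ψ.apply_symm_apply u
    have hgU : g ∈ Cfsg.GU n F p := (hGU g).2 fun x y => by
      have ha2 := adjoint_invol haa h.two_ne (hRiso a ha) x y
      rw [hgu, hu]
      simp only [quarter, LinearMap.smul_apply, LinearMap.add_apply, Module.End.one_apply, map_smul, map_smulₛₗ,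
        map_add, smul_eq_mul, hRiso a ha, ha2, hσi, map_inv₀, map_one]
      have h1i'' : (1 + -i) ≠ 0 := by rwa [← sub_eq_add_neg]
      field_simp
      ring
    have hgM : g ∈ M := hNM ⟨nor_norm g (by rw [hgu, hu]; exact (h.nor_quarter ha haa).smul _),
      mem_suG.2 ⟨hgU, hd⟩⟩
    have := (hscal _ h1i).mul (inΓ g (Subgroup.mem_sup_left hgM))
    rwa [hgu, hu, smul_mul_smul_comm, one_mul, mul_inv_cancel₀ h1i, one_smul] at this
  have hamb : Ambient i (mapSet R) Γ := by
    refine ⟨hscal, fun x hx => ?_, hquar⟩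
    by_cases hxs : IsScalarMap x
    · obtain ⟨c, rfl⟩ := hxs
      exact hscal c fun e => h.ne_zero hx (by rw [e, zero_smul])
    obtain ⟨a, ha, haa, -, c, hc, rfl⟩ := h.exists_invol hx hxs
    have hq := (hquar a ha haa).mul (hquar a ha haa)
    rw [quarter_mul_self hi haa] at hq
    have := (hscal (c * (2 * i)⁻¹) (mul_ne_zero hc (inv_ne_zero (mul_ne_zero h.two_ne h.i_ne)))).mul hq
    rwa [smul_mul_smul_comm, one_mul, mul_assoc, inv_mul_cancel₀ (mul_ne_zero h.two_ne h.i_ne), mul_one] at this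
  rcases nor_or_tv hp hFc h4p hσ hi m hB hN (hfr.trans hn) h hRiso hamb hsim with hnor | htv
  · left
    refine le_antisymm (fun g hg => ⟨nor_norm g (hnor _ (inΓ g (Subgroup.mem_sup_left hg))), hMS hg⟩) hNM
  · right
    refine le_antisymm hMS ?_
    have hall : ∀ g ∈ suG n F p, g ∈ M ⊔ scalars (Fin n) F := by
      intro g hg
      obtain ⟨hgU, hg1⟩ := mem_suG.1 hg
      set k := guEquiv hσ ⟨g, hgU⟩ with hk
      have hke : isoEnd k = ψ (g : Matrix (Fin n) (Fin n) F) := LinearMap.ext fun x => by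
        rw [isoEnd_apply, hk, guEquiv_apply, hψa]
      have hks : k ∈ sIsom B := MonoidHom.mem_ker.2 (by
        show LinearMap.det (isoEnd k) = 1
        rw [hke, hdet, hg1])
      rw [hB.sIsom_eq_tGroup hN (fun _ => Or.inr (by omega))] at hks
      obtain ⟨g', hg', e⟩ := Subgroup.mem_map.1 (tGroup_le_of_tv htv hks)
      have e' : ψ (g' : Matrix (Fin n) (Fin n) F) = ψ (g : Matrix (Fin n) (Fin n) F) := by
        rw [← hke]; exact congrArg Units.val e
      rwa [show g = g' from (Units.ext (ψ.injective e')).symm]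
    rw [← (suG_perfect_and_normal hF (by omega : 3 ≤ n) (Or.inr hn4)).1, Subgroup.commutator_le]
    intro A hA A' hA'
    obtain ⟨a, ha, za, hza, ea⟩ := Subgroup.mem_sup_of_normal_right.1 (hall A hA)
    obtain ⟨b, hb, zb, hzb, eb⟩ := Subgroup.mem_sup_of_normal_right.1 (hall A' hA')
    rw [← ea, ← eb, commutator_central (fun w => scalars_comm hza w) (fun w => scalars_comm hzb w)]
    exact M.mul_mem (M.mul_mem (M.mul_mem ha hb) (M.inv_mem ha)) (M.inv_mem hb)

end CfsgLib.Classical.PauliForm.Herm
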